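import Cfsg.Agent.H63.Eleven.ACore

/-!
Elementary facts on the permutation data `ACore` of case A of S3403.
-/

set_option autoImplicit false
set_option linter.unusedSectionVars false

open MulAction

namespace H66.Eleven

section General

variable {G Ω : Type*} [Group G] [MulAction G Ω]

/-- An element of prime order, acting on an invariant set. -/
theorem ncard_modEq_fix [Finite G] [Finite Ω] {g : G} {p : ℕ} [hp : Fact p.Prime] (hg : g ^ p = 1)
    (S : Set Ω) (hS : ∀ c ∈ S, g • c ∈ S) :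
    S.ncard ≡ {c | c ∈ S ∧ g • c = c}.ncard [MOD p] := by
  have hpow : ∀ (i : ℕ) (c : Ω), c ∈ S → g ^ i • c ∈ S := by
    intro i
    induction i with
    | zero => intro c hc; simpa using hc
    | succ i ih => intro c hc; rw [pow_succ', mul_smul]; exact hS _ (ih c hc)
  let T : SubMulAction (Subgroup.zpowers g) Ω :=
    { carrier := S
      smul_mem' := by
        rintro ⟨x, hx⟩ c hc
        obtain ⟨i, rfl⟩ := (mem_powers_iff_mem_zpowers).2 hx
        exact hpow i c hc }
  have hP : IsPGroup p (Subgroup.zpowers g) := by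
    rintro ⟨x, hx⟩
    obtain ⟨i, rfl⟩ := Subgroup.mem_zpowers_iff.1 hx
    refine ⟨1, Subtype.ext ?_⟩
    simp only [pow_one, SubmonoidClass.mk_pow, OneMemClass.coe_one]
    rw [← zpow_natCast, ← zpow_mul, mul_comm, zpow_mul, zpow_natCast, hg, one_zpow]
  have h1 := hP.card_modEq_card_fixedPoints T
  have hT : Nat.card T = S.ncard := Nat.card_coe_set_eq S
  have hF : Nat.card (MulAction.fixedPoints (Subgroup.zpowers g) T) =
      {c | c ∈ S ∧ g • c = c}.ncard := by
    rw [← Nat.card_coe_set_eq {c | c ∈ S ∧ g • c = c}]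
    refine Nat.card_congr
      { toFun := fun c => ⟨(c.1 : Ω), c.1.2,
          congrArg Subtype.val (c.2 ⟨g, Subgroup.mem_zpowers g⟩)⟩
        invFun := fun c => ⟨⟨c.1, c.2.1⟩, ?_⟩
        left_inv := fun c => rfl
        right_inv := fun c => rfl }
    rintro ⟨x, hx⟩
    obtain ⟨i, rfl⟩ := (mem_powers_iff_mem_zpowers).2 hx
    refine Subtype.ext ?_
    show g ^ i • c.1 = c.1
    have h : g ∈ MulAction.stabilizer G c.1 := c.2.2
    exact (Subgroup.pow_mem _ h i)
  rwa [hT, hF] at h1

/-- An element of prime order without fixed points on an invariant set. -/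
theorem prime_dvd_ncard [Finite G] [Finite Ω] {g : G} {p : ℕ} [Fact p.Prime] (hg : g ^ p = 1)
    (S : Set Ω) (hS : ∀ c ∈ S, g • c ∈ S) (hfix : ∀ c ∈ S, g • c ≠ c) : p ∣ S.ncard := by
  have h := ncard_modEq_fix hg S hS
  have h0 : {c | c ∈ S ∧ g • c = c} = (∅ : Set Ω) := by
    ext c
    simp only [Set.mem_setOf_eq, Set.mem_empty_iff_false, iff_false, not_and]
    exact hfix c
  rw [h0, Set.ncard_empty] at h
  exact Nat.modEq_zero_iff_dvd.1 h

theorem mem_zpowers_of_commute [Finite G] {M : Subgroup G} {g y : G} {p : ℕ} (hp : p.Prime)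
    (hgM : g ∈ M) (hyM : y ∈ M) (hg : orderOf g = p) (hy : orderOf y = p) (hc : Commute g y)
    (hM : ¬ p * p ∣ Nat.card M) : g ∈ Subgroup.zpowers y := by
  by_contra hn
  apply hM
  have hinf : Subgroup.zpowers g ⊓ Subgroup.zpowers y = ⊥ := by
    rw [← Subgroup.card_eq_one]
    have h1 : Nat.card ↥(Subgroup.zpowers g ⊓ Subgroup.zpowers y) ∣ p := by
      rw [← hg, ← Nat.card_zpowers]
      exact Subgroup.card_dvd_of_le inf_le_left
    rcases hp.eq_one_or_self_of_dvd _ h1 with h | h
    · exact h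
    · refine absurd ?_ hn
      have he : Subgroup.zpowers g ⊓ Subgroup.zpowers y = Subgroup.zpowers g :=
        Subgroup.eq_of_le_of_card_ge inf_le_left (by rw [h, Nat.card_zpowers, hg])
      have hmem : g ∈ Subgroup.zpowers g ⊓ Subgroup.zpowers y := by
        rw [he]; exact Subgroup.mem_zpowers g
      exact hmem.2
  have comm : ∀ (a : Subgroup.zpowers g) (b : Subgroup.zpowers y), Commute (a : G) (b : G) := by
    rintro ⟨a, ha⟩ ⟨b, hb⟩
    obtain ⟨i, rfl⟩ := Subgroup.mem_zpowers_iff.1 ha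
    obtain ⟨j, rfl⟩ := Subgroup.mem_zpowers_iff.1 hb
    exact hc.zpow_zpow i j
  let f := MonoidHom.noncommCoprod (Subgroup.zpowers g).subtype (Subgroup.zpowers y).subtype comm
  have hinj : Function.Injective f := by
    rw [injective_iff_map_eq_one]
    rintro ⟨a, b⟩ hab
    have hab' : (a : G) * b = 1 := hab
    have ha : (a : G) ∈ Subgroup.zpowers g ⊓ Subgroup.zpowers y :=
      ⟨a.2, by rw [eq_inv_of_mul_eq_one_left hab']; exact Subgroup.inv_mem _ b.2⟩
    rw [hinf, Subgroup.mem_bot] at ha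
    rw [ha, one_mul] at hab'
    exact Prod.ext (Subtype.ext ha) (Subtype.ext hab')
  have hle : f.range ≤ M := by
    rintro _ ⟨⟨a, b⟩, rfl⟩
    exact mul_mem (Subgroup.zpowers_le.2 hgM a.2) (Subgroup.zpowers_le.2 hyM b.2)
  have h2 := Subgroup.card_dvd_of_le hle
  rwa [← Nat.card_congr (MonoidHom.ofInjective hinj).toEquiv, Nat.card_prod, Nat.card_zpowers,
    Nat.card_zpowers, hg, hy] at h2

/-- Orbit-stabiliser for a subgroup. -/
theorem card_eq_orbit_mul (H : Subgroup G) (b : Ω) :
    Nat.card H = (MulAction.orbit H b).ncard * Nat.card ↥(H ⊓ MulAction.stabilizer G b) := by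
  rw [← Nat.card_congr (MulAction.orbitProdStabilizerEquivGroup H b), Nat.card_prod,
    Nat.card_coe_set_eq]
  congr 1
  exact Nat.card_congr
    { toFun := fun x => ⟨(x.1 : G), x.1.2, x.2⟩
      invFun := fun x => ⟨⟨x.1, x.2.1⟩, x.2.2⟩
      left_inv := fun x => rfl
      right_inv := fun x => rfl }

end General

open H63.Eleven

universe u v

variable {G : Type u} {Ω : Type v} [Group G] [Finite G] [MulAction G Ω] (A : ACore G Ω)

include A in
theorem finiteΩ : Finite Ω :=
  Nat.finite_of_card_ne_zero (by rw [A.card_points]; omega)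

include A in
theorem exists_pair : ∃ a b : Ω, a ≠ b := by
  haveI := finiteΩ A
  haveI := Fintype.ofFinite Ω
  refine Fintype.exists_pair_of_one_lt_card ?_
  rw [← Nat.card_eq_fintype_card, A.card_points]
  have := A.one_lt_u
  omega

theorem smul_of_mem {x : G} {a : Ω} (hx : x ∈ A.W a) : x • a = a := A.W_le a hx

theorem W_conj' {g x : G} {a : Ω} (hx : x ∈ A.W (g • a)) : g⁻¹ * x * g ∈ A.W a := by
  have h := A.W_conj g⁻¹ x (g • a) hx
  rwa [inv_smul_smul, inv_inv] at h

/-- `W a` is normalised by the stabiliser of `a`. -/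
theorem W_conj_fix {g x : G} {a : Ω} (hg : g • a = a) (hx : x ∈ A.W a) :
    g * x * g⁻¹ ∈ A.W a := by
  have h := A.W_conj g x a hx
  rwa [hg] at h

theorem v_pos : 0 < A.v := by
  obtain ⟨a, b, hab⟩ := exists_pair A
  rw [← A.card_V a b hab]
  exact Nat.card_pos

theorem ncard_compl (a : Ω) : ({a}ᶜ : Set Ω).ncard = 11 * A.u := by
  haveI := finiteΩ A
  rw [Set.ncard_compl, Set.ncard_singleton, A.card_points]
  omega

/-- The centraliser of a point is transitive on the other points. -/
theorem orbit_W {a b : Ω} (hab : a ≠ b) : MulAction.orbit (A.W a) b = {a}ᶜ := by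
  haveI := finiteΩ A
  have h := card_eq_orbit_mul (A.W a) b
  rw [A.card_W, A.card_V a b hab] at h
  have hn : (MulAction.orbit (A.W a) b).ncard = 11 * A.u :=
    (Nat.eq_of_mul_eq_mul_right (v_pos A) h).symm
  refine Set.eq_of_subset_of_ncard_le ?_ (by rw [hn, ncard_compl A a])
  rintro _ ⟨x, rfl⟩ (h' : (x : G) • b = a)
  exact hab (MulAction.injective (x : G) (show (x : G) • a = (x : G) • b by rw [smul_of_mem A x.2, h']))

theorem exists_W_smul {a b c : Ω} (hb : b ≠ a) (hc : c ≠ a) : ∃ x ∈ A.W a, x • b = c := by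
  have hc' : c ∈ MulAction.orbit (A.W a) b := by rw [orbit_W A hb.symm]; exact hc
  obtain ⟨x, hx⟩ := hc'
  exact ⟨x, x.2, hx⟩

/-- The two-point stabiliser. -/
abbrev M2 (G : Type u) {Ω : Type v} [Group G] [MulAction G Ω] (a b : Ω) : Subgroup G :=
  MulAction.stabilizer G a ⊓ MulAction.stabilizer G b

theorem card_stab {a b : Ω} (hab : a ≠ b) :
    Nat.card (MulAction.stabilizer G a) = 11 * A.u * Nat.card (M2 G a b) := by
  haveI := finiteΩ A
  rw [card_eq_orbit_mul (MulAction.stabilizer G a) b]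
  congr 1
  rw [← ncard_compl A a]
  congr 1
  refine Set.Subset.antisymm ?_ fun c hc => ?_
  · rintro _ ⟨x, rfl⟩ (h' : (x : G) • b = a)
    exact hab (MulAction.injective (x : G) (show (x : G) • a = (x : G) • b by rw [x.2, h']))
  · obtain ⟨x, hx, hxb⟩ := exists_W_smul A hab.symm hc
    exact ⟨⟨x, A.W_le a hx⟩, hxb⟩

include A in
theorem orbit_top (a : Ω) : MulAction.orbit G a = Set.univ := by
  refine Set.eq_univ_of_forall fun c => ?_
  haveI := finiteΩ A
  rcases eq_or_ne c a with rfl | hc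
  · exact MulAction.mem_orbit_self _
  · obtain ⟨g, hg, -⟩ := A.twoTrans a c c a hc.symm hc
    exact ⟨g, hg⟩

theorem card_G {a b : Ω} (hab : a ≠ b) :
    Nat.card G = (11 * A.u + 1) * (11 * A.u * Nat.card (M2 G a b)) := by
  haveI := finiteΩ A
  rw [← card_stab A hab, ← Nat.card_congr (MulAction.orbitProdStabilizerEquivGroup G a),
    Nat.card_prod, Nat.card_coe_set_eq, orbit_top A a, Set.ncard_univ, A.card_points]

theorem card_M_cases {a b : Ω} (hab : a ≠ b) :
    Nat.card (M2 G a b) = 5 * A.v ∨ Nat.card (M2 G a b) = 10 * A.v := by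
  obtain ⟨h1, q, hq⟩ := A.card_M a b hab
  have hq2 : q ∣ 2 := by
    rw [hq, show 10 * A.v = 5 * A.v * 2 by ring] at h1
    exact Nat.dvd_of_mul_dvd_mul_left (by have := v_pos A; omega) h1
  rcases (Nat.dvd_prime Nat.prime_two).1 hq2 with rfl | rfl
  · left; rw [hq, mul_one]
  · right; rw [hq]; ring

/-- The index of `W a` in the point stabiliser. -/
theorem index_W {a b : Ω} (hab : a ≠ b) :
    (A.W a).relIndex (MulAction.stabilizer G a) * A.v = Nat.card (M2 G a b) := by
  have h := Subgroup.relIndex_mul_relIndex ⊥ (A.W a) (MulAction.stabilizer G a) bot_le (A.W_le a)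
  rw [Subgroup.relIndex_bot_left, Subgroup.relIndex_bot_left, A.card_W, card_stab A hab] at h
  have hu : 0 < 11 * A.u := by have := A.one_lt_u; omega
  refine Nat.eq_of_mul_eq_mul_left hu ?_
  rw [← h]
  ring

/-- A power of an element fixing `a` lies in `W a`. -/
theorem pow_index_mem {a : Ω} {g : G} (hg : g • a = a) :
    g ^ (A.W a).relIndex (MulAction.stabilizer G a) ∈ A.W a := by
  haveI : ((A.W a).subgroupOf (MulAction.stabilizer G a)).Normal :=
    ⟨fun x hx g => W_conj_fix A (x := (x : G)) g.2 hx⟩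
  have h := Subgroup.pow_index_mem ((A.W a).subgroupOf (MulAction.stabilizer G a)) ⟨g, hg⟩
  rw [Subgroup.mem_subgroupOf] at h
  exact h

theorem y_notMem {a b : Ω} {y : G} (hab : a ≠ b) (hy : y ≠ 1) (hb : y • b = b)
    (hfix : ∀ c, y • c = c → c = a ∨ c = b) : y ∉ A.W a := by
  haveI := finiteΩ A
  intro hW
  have hsub : A.line a b ⊆ {a, b} := fun c hc =>
    hfix c ((A.V_fix a b y hab hW hb hy c).2 hc)
  have h1 := Set.ncard_le_ncard hsub
  have h2 : ({a, b} : Set Ω).ncard ≤ 2 := by
    refine (Set.ncard_insert_le _ _).trans ?_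
    rw [Set.ncard_singleton]
  rw [← Nat.card_coe_set_eq, A.line_card a b hab] at h1
  omega

/-- `V` has no involution when `v` is odd. -/
theorem sq_eq_one_of_odd (hv : Odd A.v) {a b : Ω} {x : G} (hab : a ≠ b) (hx : x ∈ A.W a)
    (hxb : x • b = b) (h2 : x * x = 1) : x = 1 := by
  have h : orderOf x ∣ A.v := by
    rw [← A.card_V a b hab]
    exact Subgroup.orderOf_dvd_natCard _ ⟨hx, hxb⟩
  have h' : orderOf x ∣ 2 := orderOf_dvd_of_pow_eq_one (by rw [pow_two]; exact h2)
  rw [← orderOf_eq_one_iff]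
  rcases (Nat.dvd_prime Nat.prime_two).1 h' with h'' | h''
  · exact h''
  · rw [h''] at h
    exact absurd (even_iff_two_dvd.2 h) (Nat.not_even_iff_odd.2 hv)

end H66.Eleven
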