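import Cfsg.Agent.H66.Eleven.Count
import Cfsg.Agent.H66.ZassCorollaries

/-!
The centraliser of an involution with fixed points acting on them: a Zassenhaus group.
-/

set_option autoImplicit false
set_option linter.unusedSectionVars false

open MulAction H63.Eleven

namespace H66.Eleven

universe u v

variable {G : Type u} {Ω : Type v} [Group G] [Finite G] [MulAction G Ω] (A : ACore G Ω)

/-- The centraliser of `t` in the two-point centraliser. -/
abbrev CV (a b : Ω) (t : G) : Subgroup G :=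
  A.W a ⊓ MulAction.stabilizer G b ⊓ Subgroup.centralizer {t}

theorem mem_cent_iff {g t : G} : g ∈ Subgroup.centralizer ({t} : Set G) ↔ Commute g t := by
  rw [Subgroup.mem_centralizer_singleton_iff]
  exact Iff.rfl

/-- Any two pairs of fixed points of `t` are conjugate under its centraliser. -/
theorem cent_twoTrans (hv : Odd A.v) {t : G} (ht : t * t = 1) (ht1 : t ≠ 1) {p q p' q' : Ω}
    (hpq : p ≠ q) (hpq' : p' ≠ q') (hp : t • p = p) (hq : t • q = q) (hp' : t • p' = p')
    (hq' : t • q' = q') : ∃ g ∈ Subgroup.centralizer ({t} : Set G), g • p = p' ∧ g • q = q' := by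
  obtain ⟨g, hgp, hgq⟩ := A.twoTrans p q p' q' hpq hpq'
  obtain ⟨m, ⟨hmp, hmq⟩, hm⟩ := conj_in_M A hv hpq' (s := g * t * g⁻¹) (conj_sq_iff.2 ht)
    (fun h => ht1 (by simpa [mul_inv_eq_one] using h)) ht ht1
    (by rw [← hgp, conj_mem_iff, hp]) (by rw [← hgq, conj_mem_iff, hq]) hp' hq'
  refine ⟨m * g, mem_cent_iff.2 ?_, by rw [mul_smul, hgp]; exact hmp, by rw [mul_smul, hgq]; exact hmq⟩
  have h : m * g * t * (m * g)⁻¹ = t := by rw [mul_inv_rev, ← mul_assoc]; simpa [mul_assoc] using hm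
  exact mul_inv_eq_iff_eq_mul.1 h

/-- A subgroup without fixed points on an invariant set outside `1` has order dividing its size. -/
theorem card_dvd_ncard {H : Type*} [Group H] [Finite H] {α : Type*} [MulAction H α] [Finite α] (K : Subgroup H)
    (S : Set α) (hS : ∀ k ∈ K, ∀ c ∈ S, k • c ∈ S)
    (hfree : ∀ k ∈ K, k ≠ 1 → ∀ c ∈ S, k • c ≠ c) : Nat.card K ∣ S.ncard := by
  let T : SubMulAction K α :=
    { carrier := S
      smul_mem' := fun k c hc => hS k k.2 c hc }
  have hst : ∀ x : T, MulAction.stabilizer K x = ⊥ := by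
    intro x
    rw [eq_bot_iff]
    intro k hk
    rw [Subgroup.mem_bot]
    by_contra hk1
    exact hfree k k.2 (fun h => hk1 (Subtype.ext h)) x.1 x.2 (congrArg Subtype.val hk)
  rw [← Nat.card_coe_set_eq S, ← show Nat.card T = Nat.card ↥S from rfl,
    Nat.card_congr (MulAction.selfEquivSigmaOrbitsQuotientStabilizer K T)]
  haveI : Finite (MulAction.orbitRel.Quotient K T) := by
    haveI : Finite T := Subtype.finite
    exact Quotient.finite _
  haveI := Fintype.ofFinite (MulAction.orbitRel.Quotient K T)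
  rw [Nat.card_sigma]
  refine Finset.dvd_sum fun ω _ => ?_
  rw [hst, ← Subgroup.index_eq_card, Subgroup.index_bot]

namespace Frame

variable {A} {a b : Ω} (F : Frame A a b)

/-- The elements `y ^ i * x`, `x` in the centraliser of `t`, as a subgroup. -/
theorem exists_yCV (t : G) (ht : t * t = 1) (hta : t • a = a) (htb : t • b = b) :
    ∃ K : Subgroup G, Nat.card K = 5 * Nat.card (CV A a b t) ∧
      ∀ g, g ∈ K ↔ ∃ i : Fin 5, ∃ x ∈ CV A a b t, g = F.y ^ (i : ℕ) * x := by
  have hy5 := F.y5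
  let K : Subgroup G :=
    { carrier := {g | ∃ i : Fin 5, ∃ x ∈ CV A a b t, g = F.y ^ (i : ℕ) * x}
      one_mem' := ⟨0, 1, Subgroup.one_mem _, by simp⟩
      mul_mem' := by
        rintro _ _ ⟨i, x, hx, rfl⟩ ⟨j, x', hx', rfl⟩
        refine ⟨i + j, x * x', Subgroup.mul_mem _ hx hx', ?_⟩
        have hc : Commute x (F.y ^ (j : ℕ)) := Commute.pow_right (F.yV x hx.1.1 hx.1.2) _
        rw [pow_fin_add hy5, mul_assoc (F.y ^ (i : ℕ)) x, ← mul_assoc x, hc.eq]
        simp only [mul_assoc]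
      inv_mem' := by
        rintro _ ⟨i, x, hx, rfl⟩
        refine ⟨-i, x⁻¹, Subgroup.inv_mem _ hx, ?_⟩
        have hc : Commute x (F.y ^ (i : ℕ)) := Commute.pow_right (F.yV x hx.1.1 hx.1.2) _
        rw [pow_fin_neg hy5, mul_inv_rev]
        exact hc.inv_inv.eq }
  refine ⟨K, ?_, fun g => Iff.rfl⟩
  let φ : Fin 5 × CV A a b t → K := fun p => ⟨F.y ^ (p.1 : ℕ) * p.2, p.1, p.2, p.2.2, rfl⟩
  have hbij : Function.Bijective φ := by
    refine ⟨?_, ?_⟩
    · rintro ⟨i, x⟩ ⟨j, x'⟩ h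
      obtain ⟨rfl, hx⟩ := ypow_mul_inj A F.hab F.hy F.yb F.fix x.2.1.1 x'.2.1.1
        (congrArg Subtype.val h)
      exact Prod.ext rfl (Subtype.ext hx)
    · rintro ⟨g, i, x, hx, rfl⟩
      exact ⟨(i, ⟨x, hx⟩), rfl⟩
  rw [← Nat.card_congr (Equiv.ofBijective φ hbij), Nat.card_prod, Nat.card_fin]

/-- `y ^ i * x` with `i ≠ 0` fixes two points only; so does `x ≠ 1` among the fixed points of an
involution. -/
theorem ypow_mul_fix (hv : Odd A.v) (hu : Odd A.u) {t : G} (ht : t * t = 1) (ht1 : t ≠ 1)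
    (hta : t • a = a) (htb : t • b = b) {i : Fin 5} {x : G} (hx : x ∈ A.W a) (hxb : x • b = b)
    {c : Ω} (htc : t • c = c) (hc : (F.y ^ (i : ℕ) * x) • c = c) :
    (i = 0 ∧ x = 1) ∨ c = a ∨ c = b := by
  by_cases hi : i = 0
  · by_cases hx1 : x = 1
    · exact Or.inl ⟨hi, hx1⟩
    · right
      rw [hi, Fin.val_zero, pow_zero, one_mul] at hc
      exact F.inv_fix_line ht (not_mem_W_of_inv A hv hu ht ht1 a) hta htb
        ((A.V_fix a b x F.hab hx hxb hx1 c).1 hc) htc
  · right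
    obtain ⟨m, hm⟩ : ∃ m : Fin 5, i * m = 1 :=
      (by decide +revert : ∀ i : Fin 5, i ≠ 0 → ∃ m, i * m = 1) i hi
    have hcm : Commute (F.y ^ (i : ℕ)) x := (Commute.pow_right (F.yV x hx hxb) _).symm
    have h : (F.y ^ (i : ℕ) * x) ^ (m : ℕ) ∈ MulAction.stabilizer G c := Subgroup.pow_mem _ hc _
    rw [hcm.mul_pow, ← pow_mul, pow_eq_pow_mod _ F.y5, ← Fin.val_mul, hm, Fin.val_one, pow_one] at h
    exact F.yx _ (pow_mem hx _) (Subgroup.pow_mem (MulAction.stabilizer G b) hxb _) c h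

include F in
/-- `5 v₀` divides `f - 2`. -/
theorem dvd_fix_sub (hv : Odd A.v) (hu : Odd A.u) {t : G} (ht : t * t = 1) (ht1 : t ≠ 1)
    (hta : t • a = a) (htb : t • b = b) :
    5 * Nat.card (CV A a b t) ∣ (fixSet Ω t).ncard - 2 := by
  haveI := finiteΩ A
  obtain ⟨K, hK, hmem⟩ := F.exists_yCV t ht hta htb
  have hsub : ({a, b} : Set Ω) ⊆ fixSet Ω t :=
    Set.insert_subset hta (Set.singleton_subset_iff.2 htb)
  rw [← hK, show (fixSet Ω t).ncard - 2 = (fixSet Ω t \ {a, b}).ncard by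
    rw [Set.ncard_sdiff hsub, Set.ncard_pair F.hab]]
  refine card_dvd_ncard K _ ?_ ?_
  · intro g hg c hc
    obtain ⟨i, x, hx, rfl⟩ := (hmem g).1 hg
    obtain ⟨htc, hcab⟩ := hc
    have hcomm : Commute (F.y ^ (i : ℕ) * x) t :=
      Commute.mul_left (Commute.pow_left (Commute.symm (F.yT t ht hta htb)) _)
        (mem_cent_iff.1 hx.2)
    have hga : (F.y ^ (i : ℕ) * x) • a = a := by rw [mul_smul, smul_of_mem A hx.1.1, F.ypow_a]
    have hgb : (F.y ^ (i : ℕ) * x) • b = b := by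
      rw [mul_smul, show x • b = b from hx.1.2, F.ypow_b]
    refine ⟨?_, ?_⟩
    · show t • (F.y ^ (i : ℕ) * x) • c = (F.y ^ (i : ℕ) * x) • c
      rw [← mul_smul, ← hcomm.eq, mul_smul, htc]
    · rintro (h | h)
      · exact hcab (Or.inl (MulAction.injective _ (h.trans hga.symm)))
      · exact hcab (Or.inr (MulAction.injective _ (h.trans hgb.symm)))
  · intro g hg hg1 c hc hgc
    obtain ⟨i, x, hx, rfl⟩ := (hmem g).1 hg
    rcases F.ypow_mul_fix hv hu ht ht1 hta htb hx.1.1 hx.1.2 hc.1 hgc with ⟨rfl, rfl⟩ | h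
    · simp at hg1
    · exact hc.2 h

include F in
/-- The fixed points of `t` number at most `10 v₀ + 2`. -/
theorem fix_bound (hv : Odd A.v) (hu : Odd A.u) {t : G} (ht : t * t = 1) (ht1 : t ≠ 1)
    (hta : t • a = a) (htb : t • b = b) :
    (fixSet Ω t).ncard ≤ 2 * (5 * Nat.card (CV A a b t)) + 2 := by
  haveI := finiteΩ A
  by_contra hlarge
  push Not at hlarge
  have htW := not_mem_W_of_inv A hv hu ht ht1 a
  let C : Subgroup G := Subgroup.centralizer ({t} : Set G)
  let S : SubMulAction C Ω :=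
    { carrier := fixSet Ω t
      smul_mem' := by
        rintro ⟨g, hg⟩ c hc
        show t • g • c = g • c
        rw [← mul_smul, ← (mem_cent_iff.1 hg).eq, mul_smul, show t • c = c from hc] }
  haveI : Finite S := Subtype.finite
  let φ : C →* Equiv.Perm S := MulAction.toPermHom C S
  have hφ : ∀ (g : C) (p : S), ((φ g p : S) : Ω) = (g : G) • (p : Ω) := fun g p => rfl
  let a' : S := ⟨a, hta⟩
  let b' : S := ⟨b, htb⟩
  have hab' : a' ≠ b' := fun h => F.hab (congrArg Subtype.val h)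
  have hyC : F.y ∈ C := mem_cent_iff.2 (Commute.symm (F.yT t ht hta htb))
  have hwC : F.w ∈ C := mem_cent_iff.2 (Commute.symm (F.wT t ht hta htb htW))
  obtain ⟨c₀, hc₀, hc₀ab⟩ : ∃ c ∈ fixSet Ω t, ¬ (c = a ∨ c = b) := by
    by_contra hall
    push Not at hall
    have h1 : fixSet Ω t ⊆ {a, b} := fun c hc => by
      by_cases h : c = a
      · exact Or.inl h
      · exact Or.inr ((hall c hc).resolve_left h)
    have h2 := Set.ncard_le_ncard h1
    rw [Set.ncard_pair F.hab] at h2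
    omega
  let c' : S := ⟨c₀, hc₀⟩
  obtain ⟨K, hK, hmemK⟩ := F.exists_yCV t ht hta htb
  have hKC : K ≤ C := by
    intro g hg
    obtain ⟨i, x, hx, rfl⟩ := (hmemK g).1 hg
    exact mem_cent_iff.2 (Commute.mul_left
      (Commute.pow_left (Commute.symm (F.yT t ht hta htb)) _) (mem_cent_iff.1 hx.2))
  have hφt : φ ⟨t, mem_cent_iff.2 (Commute.refl t)⟩ = 1 := by
    ext p
    exact p.2
  have hstab : ∀ g : C, (g : G) • a = a → (g : G) • b = b →
      ∃ k : K, φ g = φ ⟨k, hKC k.2⟩ := by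
    rintro ⟨g, hg⟩ hga hgb
    obtain ⟨i, x, hx, hxb, hgx⟩ := F.decomp hv ht ht1 htW hta htb (m := g) ⟨hga, hgb⟩
    have hyi : F.y ^ (i : ℕ) ∈ C := pow_mem hyC _
    have htC : t ∈ C := mem_cent_iff.2 (Commute.refl t)
    have hxC : x ∈ C := by
      rcases hgx with h | h
      · rw [h] at hg
        simpa using mul_mem (inv_mem hyi) hg
      · rw [h] at hg
        simpa [mul_assoc] using mul_mem (mul_mem (inv_mem hyi) hg) (inv_mem htC)
    refine ⟨⟨F.y ^ (i : ℕ) * x, (hmemK _).2 ⟨i, x, ⟨⟨hx, hxb⟩, hxC⟩, rfl⟩⟩, ?_⟩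
    rcases hgx with h | h
    · exact congrArg φ (Subtype.ext h)
    · rw [show (⟨g, hg⟩ : C) = ⟨F.y ^ (i : ℕ) * x, mul_mem hyi hxC⟩ * ⟨t, htC⟩ from Subtype.ext h,
        map_mul, hφt, mul_one]
  have hfree : ∀ (k : K) (p : S), p ≠ a' → p ≠ b' → (k : G) • (p : Ω) = p → (k : G) = 1 := by
    intro k p hpa hpb hkp
    obtain ⟨i, x, hx, he⟩ := (hmemK (k : G)).1 k.2
    rw [he] at hkp ⊢
    rcases F.ypow_mul_fix hv hu ht ht1 hta htb hx.1.1 hx.1.2 p.2 hkp with ⟨rfl, rfl⟩ | h | h
    · simp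
    · exact absurd (Subtype.ext h) hpa
    · exact absurd (Subtype.ext h) hpb
  let X : Subgroup (Equiv.Perm S) := φ.range
  have hsmul : ∀ (g : C) (p : S), (((⟨φ g, g, rfl⟩ : X) • p : S) : Ω) = (g : G) • (p : Ω) :=
    fun g p => rfl
  have htrans : ∀ p q p' q' : S, p ≠ q → p' ≠ q' → ∃ g : C,
      (g : G) • (p : Ω) = p' ∧ (g : G) • (q : Ω) = q' := by
    intro p q p' q' hpq hpq'
    obtain ⟨g, hg, h1, h2⟩ := cent_twoTrans A hv ht ht1 (fun h => hpq (Subtype.ext h))
      (fun h => hpq' (Subtype.ext h)) p.2 q.2 p'.2 q'.2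
    exact ⟨⟨g, hg⟩, h1, h2⟩
  have hstab2 : ∀ x : X, x • a' = a' → x • b' = b' → ∃ k : K, (x : Equiv.Perm S) = φ ⟨k, hKC k.2⟩ := by
    rintro ⟨_, g, rfl⟩ hga hgb
    exact hstab g (congrArg Subtype.val hga) (congrArg Subtype.val hgb)
  obtain ⟨e, he⟩ : ∃ e, e = Nat.card ↥(MulAction.stabilizer X a' ⊓ MulAction.stabilizer X b' :
      Subgroup X) := ⟨_, rfl⟩
  have hv0 : Odd (Nat.card (CV A a b t)) := by
    refine Odd.of_dvd_nat hv ?_
    rw [← A.card_V a b F.hab]
    exact Subgroup.card_dvd_of_le inf_le_left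
  have hK' : Odd (Nat.card K) := hK ▸ (show Odd 5 by decide).mul hv0
  have hodd : Odd e := by
    rw [← Nat.not_even_iff_odd, even_iff_two_dvd, he]
    intro h2
    obtain ⟨⟨x, hxa, hxb⟩, hx⟩ := exists_prime_orderOf_dvd_card' 2 h2
    obtain ⟨k, hk⟩ := hstab2 x hxa hxb
    have h3 : (x : Equiv.Perm S) ^ Nat.card K = 1 := by
      rw [hk, ← map_pow, ← map_one φ]
      congr 1
      exact Subtype.ext (congrArg Subtype.val (pow_card_eq_one' (x := k)) :)
    have h4 := orderOf_dvd_of_pow_eq_one h3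
    rw [Subgroup.orderOf_coe, ← Subgroup.orderOf_mk (H :=
      MulAction.stabilizer X a' ⊓ MulAction.stabilizer X b') x ⟨hxa, hxb⟩, hx,
      ← even_iff_two_dvd] at h4
    exact Nat.not_even_iff_odd.2 hK' h4
  have hle : e ≤ Nat.card K := by
    rw [he]
    have hmem : ∀ k : K, ((⟨φ ⟨k, hKC k.2⟩, _, rfl⟩ : X) ∈
        MulAction.stabilizer X a' ⊓ MulAction.stabilizer X b') := by
      intro k
      obtain ⟨i, x, hx, hkx⟩ := (hmemK (k : G)).1 k.2
      refine ⟨Subtype.ext ?_, Subtype.ext ?_⟩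
      · show (k : G) • a = a
        rw [hkx, mul_smul, smul_of_mem A hx.1.1, F.ypow_a]
      · show (k : G) • b = b
        rw [hkx, mul_smul, show x • b = b from hx.1.2, F.ypow_b]
    refine Nat.card_le_card_of_surjective (fun k : K => (⟨_, hmem k⟩ :
      ↥(MulAction.stabilizer X a' ⊓ MulAction.stabilizer X b' : Subgroup X))) ?_
    rintro ⟨x, hxa, hxb⟩
    obtain ⟨k, hk⟩ := hstab2 x hxa hxb
    exact ⟨k, Subtype.ext (Subtype.ext hk.symm)⟩
  have htwo : MulAction.IsMultiplyPretransitive X S 2 := by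
    refine MulAction.is_two_pretransitive_iff.2 ?_
    intro p q p' q' hpq hpq'
    obtain ⟨g, h1, h2⟩ := htrans p q p' q' hpq hpq'
    exact ⟨⟨φ g, g, rfl⟩, Subtype.ext h1, Subtype.ext h2⟩
  have hcardS : Nat.card S = (fixSet Ω t).ncard := Nat.card_coe_set_eq (fixSet Ω t)
  have hfeven : Even (Nat.card S) := by
    haveI : Fact (Nat.Prime 2) := ⟨Nat.prime_two⟩
    have h := ncard_modEq_fix (p := 2) (g := t) (by rw [pow_two, ht]) (Set.univ : Set Ω)
      (fun c _ => Set.mem_univ _)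
    rw [Set.ncard_univ, A.card_points] at h
    have h1 : {c : Ω | c ∈ Set.univ ∧ t • c = c} = fixSet Ω t := by ext c; simp
    rw [h1, ← hcardS] at h
    obtain ⟨r, hr⟩ := hu
    rw [Nat.even_iff]
    unfold Nat.ModEq at h
    omega
  have hZ : Cfsg.IsZassenhausGroup X S := by
    refine ⟨⟨fun {m m'} h => Subtype.ext (Equiv.ext h)⟩, htwo, ?_, ?_, ?_⟩
    · rintro ⟨_, g, rfl⟩ p q r hpq hqr hpr hp hq hr
      obtain ⟨h, hha, hhb⟩ := htrans p q a' b' hpq hab'
      have hp' : (g : G) • (p : Ω) = p := congrArg Subtype.val hp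
      have hq' : (g : G) • (q : Ω) = q := congrArg Subtype.val hq
      have hr' : (g : G) • (r : Ω) = r := congrArg Subtype.val hr
      have hga : ((h * g * h⁻¹ : C) : G) • a = a := by
        show ((h : G) * g * (h : G)⁻¹) • a = a
        have h1 := (conj_mem_iff (g := (h : G))).2 hp'
        rwa [hha] at h1
      have hgb : ((h * g * h⁻¹ : C) : G) • b = b := by
        show ((h : G) * g * (h : G)⁻¹) • b = b
        have h1 := (conj_mem_iff (g := (h : G))).2 hq'
        rwa [hhb] at h1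
      obtain ⟨k, hk⟩ := hstab _ hga hgb
      have hfix : (k : G) • (((h • r : S)) : Ω) = ((h • r : S) : Ω) := by
        have h1 := congrArg (fun σ : Equiv.Perm S => ((σ (h • r) : S) : Ω)) hk
        simp only [hφ] at h1
        rw [← h1]
        exact conj_mem_iff.2 hr'
      have hk1 := hfree k (h • r)
        (fun e' => hpr (Subtype.ext (MulAction.injective (h : G)
          (hha.trans (congrArg Subtype.val e').symm))))
        (fun e' => hqr (Subtype.ext (MulAction.injective (h : G)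
          (hhb.trans (congrArg Subtype.val e').symm)))) hfix
      have h2 : φ (h * g * h⁻¹) = 1 := by
        rw [hk, ← map_one φ]
        exact congrArg φ (Subtype.ext hk1)
      rw [map_mul, map_mul, map_inv, mul_inv_eq_one, mul_eq_left] at h2
      exact Subtype.ext h2
    · refine ⟨⟨φ ⟨F.y, hyC⟩, _, rfl⟩, fun h => ?_, a', b', hab', Subtype.ext F.ya,
        Subtype.ext F.yb⟩
      have h1 : φ ⟨F.y, hyC⟩ = 1 := congrArg Subtype.val h
      have h2 : F.y • c₀ = c₀ :=
        congrArg (fun σ : Equiv.Perm S => ((σ c' : S) : Ω)) h1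
      exact hc₀ab (F.fix c₀ h2)
    · intro N hN hNtrans
      by_contra hreg
      push Not at hreg
      haveI := hN
      have hNcard : Nat.card N = Nat.card S := by
        have h := card_eq_orbit_mul N a'
        have h1 : N ⊓ MulAction.stabilizer X a' = ⊥ := by
          rw [eq_bot_iff]
          intro x hx
          have h2 : (⟨x, hx.1⟩ : N) ∈ MulAction.stabilizer N a' := hx.2
          rw [hreg a', Subgroup.mem_bot] at h2
          exact congrArg Subtype.val h2
        rw [h1, Subgroup.card_bot, mul_one, MulAction.orbit_eq_univ, Set.ncard_univ] at h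
        exact h
      have hXcard : Nat.card X = Nat.card S * ((Nat.card S - 1) * e) := by
        have h := card_eq_orbit_mul (⊤ : Subgroup X) a'
        rw [Subgroup.card_top, top_inf_eq] at h
        have hpre : MulAction.IsPretransitive X S := ⟨fun p q => by
          obtain ⟨n, hn⟩ := hNtrans.exists_smul_eq p q
          exact ⟨n, hn⟩⟩
        have horb : MulAction.orbit (⊤ : Subgroup X) a' = Set.univ := Set.eq_univ_of_forall
          fun p => by
            obtain ⟨n, hn⟩ := hpre.exists_smul_eq a' p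
            exact ⟨⟨n, trivial⟩, hn⟩
        rw [horb, Set.ncard_univ] at h
        rw [h, card_eq_orbit_mul (MulAction.stabilizer X a') b', ← he]
        congr 2
        rw [show MulAction.orbit (MulAction.stabilizer X a') b' = {a'}ᶜ from ?_, Set.ncard_compl,
          Set.ncard_singleton]
        refine Set.Subset.antisymm ?_ fun p hp => ?_
        · rintro _ ⟨x, rfl⟩ (h' : (x : X) • b' = a')
          exact hab' (MulAction.injective (x : X) (show (x : X) • a' = (x : X) • b' by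
            rw [h']; exact x.2))
        · obtain ⟨x, hx1, hx2⟩ := MulAction.is_two_pretransitive_iff.1 htwo hab'
            (Ne.symm hp : a' ≠ p)
          exact ⟨⟨x, hx1⟩, hx2⟩
      have hidx : N.index = (Nat.card S - 1) * e := by
        have hpos : 0 < Nat.card S := by rw [hcardS]; omega
        refine Nat.eq_of_mul_eq_mul_left hpos ?_
        rw [← hXcard, ← hNcard]
        exact N.card_mul_index
      have hidx' : Odd N.index := by
        rw [hidx]
        refine Odd.mul ?_ hodd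
        refine Nat.Even.sub_odd ?_ hfeven odd_one
        rw [hcardS]
        omega
      let W' : X := ⟨φ ⟨F.w, hwC⟩, _, rfl⟩
      let Y' : X := ⟨φ ⟨F.y, hyC⟩, _, rfl⟩
      have hW'2 : W' ^ 2 = 1 := by
        refine Subtype.ext ?_
        show φ ⟨F.w, hwC⟩ ^ 2 = 1
        rw [← map_pow, ← map_one φ]
        exact congrArg φ (Subtype.ext (by rw [SubmonoidClass.coe_pow, pow_two]; exact F.ww))
      have hWN : W' ∈ N := by
        obtain ⟨r, hr⟩ := hidx'
        have h := N.pow_index_mem W'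
        rwa [hr, pow_add, pow_mul, hW'2, one_pow, pow_one, one_mul] at h
      have hcN : Y' * W' * Y'⁻¹ * W'⁻¹ ∈ N := mul_mem (hN.conj_mem _ hWN Y') (inv_mem hWN)
      have hyy : (((Y' * W' * Y'⁻¹ * W'⁻¹ : X)) : Equiv.Perm S) =
          φ ⟨F.y ^ 2, pow_mem hyC 2⟩ := by
        show φ ⟨F.y, hyC⟩ * φ ⟨F.w, hwC⟩ * (φ ⟨F.y, hyC⟩)⁻¹ * (φ ⟨F.w, hwC⟩)⁻¹ = _
        rw [← map_inv, ← map_inv, ← map_mul, ← map_mul, ← map_mul]
        refine congrArg φ (Subtype.ext ?_)
        show F.y * F.w * F.y⁻¹ * F.w⁻¹ = F.y ^ 2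
        rw [show F.y * F.w * F.y⁻¹ * F.w⁻¹ = F.y * (F.w * F.y * F.w⁻¹)⁻¹ by group, F.wy, inv_inv,
          pow_two]
      have hst : (⟨_, hcN⟩ : N) ∈ MulAction.stabilizer N a' := by
        show (Y' * W' * Y'⁻¹ * W'⁻¹) • a' = a'
        refine Subtype.ext ?_
        show ((((Y' * W' * Y'⁻¹ * W'⁻¹ : X)) : Equiv.Perm S) a' : Ω) = a
        rw [hyy, hφ]
        exact F.ypow_a 2
      rw [hreg a', Subgroup.mem_bot] at hst
      have h1 : φ ⟨F.y ^ 2, pow_mem hyC 2⟩ = 1 := by
        rw [← hyy]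
        exact congrArg (fun n : N => ((n : X) : Equiv.Perm S)) hst
      have h2 : F.y ^ 2 • c₀ = c₀ := congrArg (fun σ : Equiv.Perm S => ((σ c' : S) : Ω)) h1
      exact hc₀ab (F.fix_of_pow (i := 2) (by decide) h2)
  rcases H66.Feit.ito_dichotomy (Nat.card X) rfl hZ hab' (he ▸ hodd) with h | ⟨-, h⟩
  · rw [hcardS, ← he] at h
    rw [← hK] at hlarge
    omega
  · exact Nat.not_even_iff_odd.2 h hfeven

end Frame

end H66.Eleven
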