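import Cfsg.Agent.H66.Eleven.Basic

/-!
The case `u = 121`: no group of order `1332 · 1331 · 5k` with `k ∣ 12`.
-/

set_option autoImplicit false
set_option linter.unusedSectionVars false

open MulAction H63.Eleven

namespace H66.Eleven

universe u v

variable {G : Type u} {Ω : Type v} [Group G] [Finite G] [MulAction G Ω] (A : ACore G Ω)

theorem fix_eleven (hu : A.u = 121) (hv : A.v ∣ 6) {g : G} (hg : g ^ 11 = 1) (hg1 : g ≠ 1) :
    ∃ a : Ω, g • a = a ∧ ∀ c, g • c = c → c = a := by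
  haveI := finiteΩ A
  haveI : Fact (Nat.Prime 11) := ⟨by norm_num⟩
  have hord : orderOf g = 11 := orderOf_eq_prime hg hg1
  have h := ncard_modEq_fix hg (Set.univ : Set Ω) (fun c _ => Set.mem_univ _)
  rw [Set.ncard_univ, A.card_points, hu] at h
  obtain ⟨a, -, ha⟩ : {c : Ω | c ∈ Set.univ ∧ g • c = c}.Nonempty := by
    apply Set.nonempty_of_ncard_ne_zero
    intro h0
    rw [h0] at h
    norm_num [Nat.ModEq] at h
  refine ⟨a, ha, fun c hc => by_contra fun hca => ?_⟩
  have hW : g ∈ A.W a := by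
    have h2 : g = (g ^ 10) ^ 10 := by
      rw [← pow_mul, show (10 * 10 : ℕ) = 11 * 9 + 1 from rfl, pow_add, pow_mul, hg, one_pow,
        pow_one, one_mul]
    rw [h2]
    exact pow_mem (A.pow_ten a g ha) 10
  have h3 : orderOf g ∣ A.v := by
    rw [← A.card_V a c (Ne.symm hca)]
    exact Subgroup.orderOf_dvd_natCard _ ⟨hW, hc⟩
  rw [hord] at h3
  exact absurd (h3.trans hv) (by norm_num)

theorem fix_five (hu : A.u = 121) (hv : A.v ∣ 6) {g : G} (hg : g ^ 5 = 1) (hg1 : g ≠ 1) :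
    ∃ a b : Ω, a ≠ b ∧ g • a = a ∧ g • b = b ∧ ∀ c, g • c = c → c = a ∨ c = b := by
  haveI := finiteΩ A
  haveI : Fact (Nat.Prime 5) := ⟨by norm_num⟩
  have hord : orderOf g = 5 := orderOf_eq_prime hg hg1
  have h := ncard_modEq_fix hg (Set.univ : Set Ω) (fun c _ => Set.mem_univ _)
  rw [Set.ncard_univ, A.card_points, hu] at h
  have h2 : 1 < {c : Ω | c ∈ Set.univ ∧ g • c = c}.ncard := by
    by_contra h0
    unfold Nat.ModEq at h
    omega
  obtain ⟨a, ⟨-, ha⟩, b, ⟨-, hb⟩, hab⟩ := (Set.one_lt_ncard).1 h2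
  refine ⟨a, b, hab, ha, hb, ?_⟩
  obtain ⟨y, hy, hya, hyb, hfix, hcomm, -⟩ := A.exists_y a b hab
  have hM : ¬ 5 * 5 ∣ Nat.card (M2 G a b) := by
    intro h25
    have h1 := h25.trans (((A.card_M a b hab).1).trans (Nat.mul_dvd_mul_left 10 hv))
    norm_num at h1
  have hgy : Commute g y := by
    obtain ⟨x, hx⟩ : ∃ x, x = g * y * g⁻¹ * y⁻¹ := ⟨_, rfl⟩
    have hxW : x ∈ A.W a := hx ▸ A.comm_mem a g y ha hya
    have hxb : x • b = b := by
      have h3 : x ∈ MulAction.stabilizer G b := by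
        rw [hx]
        exact Subgroup.mul_mem _ (Subgroup.mul_mem _ (Subgroup.mul_mem _ hb hyb)
          (Subgroup.inv_mem _ hb)) (Subgroup.inv_mem _ hyb)
      exact h3
    have hxy : Commute x y := hcomm x hxW hxb
    have hgyg : g * y * g⁻¹ = x * y := by rw [hx]; group
    have hy5 : y ^ 5 = 1 := hy ▸ pow_orderOf_eq_one y
    have hx5 : x ^ 5 = 1 := by
      have h3 : (g * y * g⁻¹) ^ 5 = 1 := by rw [conj_pow, hy5, mul_one, mul_inv_cancel]
      rwa [hgyg, hxy.mul_pow, hy5, mul_one] at h3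
    have hx1 : x = 1 := by
      have h3 : orderOf x ∣ 5 := orderOf_dvd_of_pow_eq_one hx5
      have h4 : orderOf x ∣ A.v := by
        rw [← A.card_V a b hab]
        exact Subgroup.orderOf_dvd_natCard _ ⟨hxW, hxb⟩
      rw [← orderOf_eq_one_iff]
      exact Nat.eq_one_of_dvd_coprimes (show Nat.Coprime 5 6 by norm_num) h3 (h4.trans hv)
    rw [hx1, one_mul, mul_inv_eq_iff_eq_mul] at hgyg
    exact hgyg
  have hmem := mem_zpowers_of_commute (M := M2 G a b) (by norm_num) ⟨ha, hb⟩ ⟨hya, hyb⟩ hord hy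
    hgy hM
  have heq : Subgroup.zpowers g = Subgroup.zpowers y :=
    Subgroup.eq_of_le_of_card_ge (Subgroup.zpowers_le.2 hmem)
      (by rw [Nat.card_zpowers, Nat.card_zpowers, hord, hy])
  intro c hc
  have hyc : y ∈ MulAction.stabilizer G c := by
    refine (Subgroup.zpowers_le.2 (show g ∈ MulAction.stabilizer G c from hc)) ?_
    rw [heq]
    exact Subgroup.mem_zpowers y
  exact hfix c hyc

/-- `|G| = 1332 · 1331 · 5k` with `k ∣ 12` is impossible. -/
theorem false_u121 (hu : A.u = 121) (hv : A.v ∣ 6) : False := by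
  haveI := finiteΩ A
  obtain ⟨a₀, b₀, hab⟩ := exists_pair A
  obtain ⟨hMd, k', hk'⟩ := A.card_M a₀ b₀ hab
  obtain ⟨k, hk, hk12⟩ : ∃ k, Nat.card (M2 G a₀ b₀) = 5 * k ∧ k ∣ 12 := by
    refine ⟨A.v * k', by rw [hk']; ring, ?_⟩
    have h1 := hMd.trans (Nat.mul_dvd_mul_left 10 hv)
    rw [hk', mul_assoc] at h1
    exact Nat.dvd_of_mul_dvd_mul_left (by norm_num : 0 < 5) h1
  have hG : Nat.card G = 37 * (36 * (6655 * k)) := by
    rw [card_G A hab, hu, hk]; ring
  have h37k : ¬ 37 ∣ 36 * (6655 * k) := by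
    intro h
    have h1 := h.trans (Nat.mul_dvd_mul_left 36 (Nat.mul_dvd_mul_left 6655 hk12))
    norm_num at h1
  have hnostab : ∀ (a : Ω) (z : G), z • a = a → z ^ 37 = 1 → z = 1 := by
    intro a z hza hz
    by_contra hz1
    obtain ⟨b, hb⟩ : ∃ b, b ≠ a := by
      rcases eq_or_ne a₀ a with rfl | h
      · exact ⟨b₀, hab.symm⟩
      · exact ⟨a₀, h⟩
    haveI : Fact (Nat.Prime 37) := ⟨by norm_num⟩
    have hord : orderOf z = 37 := orderOf_eq_prime hz hz1
    have h1 : 37 ∣ Nat.card (MulAction.stabilizer G a) := by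
      rw [← hord]; exact Subgroup.orderOf_dvd_natCard _ hza
    rw [card_stab A hb.symm, hu] at h1
    have h2 := h1.trans (Nat.mul_dvd_mul_left (11 * 121)
      (((A.card_M a b hb.symm).1).trans (Nat.mul_dvd_mul_left 10 hv)))
    norm_num at h2
  haveI : Fact (Nat.Prime 37) := ⟨by norm_num⟩
  obtain ⟨Q⟩ := (inferInstance : Nonempty (Sylow 37 G))
  have hQ : Nat.card Q = 37 := by
    obtain ⟨e, he⟩ := Q.2.exists_card_eq
    have h1 : Nat.card Q ∣ Nat.card G := Subgroup.card_subgroup_dvd_card _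
    have h2 : 37 ∣ Nat.card Q := Q.dvd_card_of_dvd_card (hG ▸ dvd_mul_right _ _)
    rcases e with _ | _ | e
    · rw [he] at h2; norm_num at h2
    · simpa using he
    · refine absurd ?_ h37k
      rw [he, hG, pow_succ'] at h1
      exact dvd_trans (dvd_pow_self 37 (Nat.succ_ne_zero e))
        (Nat.dvd_of_mul_dvd_mul_left (by norm_num : 0 < 37) h1)
  obtain ⟨N, hN⟩ : ∃ N : Subgroup G, N = Subgroup.normalizer ((Q : Subgroup G) : Set G) :=
    ⟨_, rfl⟩
  have hfree : ∀ p : ℕ, p = 5 ∨ p = 11 → ¬ p ∣ Nat.card N := by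
    intro p hp hdvd
    haveI : Fact p.Prime := ⟨by rcases hp with rfl | rfl <;> norm_num⟩
    obtain ⟨⟨g, hgN⟩, hord⟩ := exists_prime_orderOf_dvd_card' p hdvd
    rw [Subgroup.orderOf_mk] at hord
    have hgp : g ^ p = 1 := hord ▸ pow_orderOf_eq_one g
    have hg1 : g ≠ 1 := fun h => by
      rw [h, orderOf_one] at hord
      rcases hp with rfl | rfl <;> norm_num at hord
    haveI : Finite (ConjAct G) := Finite.of_equiv G ConjAct.toConjAct.toEquiv
    have hm := ncard_modEq_fix (g := ConjAct.toConjAct g) (p := p)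
      (by rw [← map_pow, hgp, map_one]) ((Q : Subgroup G) : Set G) (fun c hc => by
        rw [ConjAct.toConjAct_smul]
        rw [hN] at hgN
        exact (Subgroup.mem_normalizer_iff.1 hgN c).1 hc)
    rw [show ((Q : Subgroup G) : Set G).ncard = 37 from (Nat.card_coe_set_eq _).symm.trans hQ] at hm
    obtain ⟨z, ⟨hzQ, hz⟩, hz1⟩ : ∃ z ∈ {c | c ∈ ((Q : Subgroup G) : Set G) ∧
        ConjAct.toConjAct g • c = c}, z ≠ 1 := by
      refine Set.exists_ne_of_one_lt_ncard ?_ 1
      by_contra h0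
      unfold Nat.ModEq at hm
      rcases hp with rfl | rfl <;> omega
    rw [ConjAct.toConjAct_smul, mul_inv_eq_iff_eq_mul] at hz
    have hz37 : z ^ 37 = 1 :=
      orderOf_dvd_iff_pow_eq_one.1 (hQ ▸ Subgroup.orderOf_dvd_natCard _ hzQ)
    have hperm : ∀ c : Ω, g • c = c → g • z • c = z • c := fun c hc => by
      rw [← mul_smul, hz, mul_smul, hc]
    rcases hp with rfl | rfl
    · obtain ⟨a, b, hne, ha, hb, huniq⟩ := fix_five A hu hv hgp hg1
      refine hz1 (hnostab a z ?_ hz37)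
      rcases huniq _ (hperm a ha) with h1 | h1
      · exact h1
      · rcases huniq _ (hperm b hb) with h2 | h2
        · have h3 : (z ^ 2) ∈ MulAction.stabilizer G a := by
            show (z ^ 2) • a = a
            rw [pow_two, mul_smul, h1, h2]
          have h4 := Subgroup.pow_mem _ h3 19
          rwa [← pow_mul, show (2 * 19 : ℕ) = 37 + 1 from rfl, pow_add, hz37, one_mul,
            pow_one] at h4
        · exact absurd (MulAction.injective z (h1.trans h2.symm)) hne
    · obtain ⟨a, ha, huniq⟩ := fix_eleven A hu hv hgp hg1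
      exact hz1 (hnostab a z (huniq _ (hperm a ha)) hz37)
  have hcount : Nat.card (Sylow 37 G) = N.index := by rw [hN]; exact Q.card_eq_index_normalizer
  have hmod := card_sylow_modEq_one 37 G
  obtain ⟨m, hm⟩ : 37 ∣ Nat.card N := hQ ▸ Subgroup.card_dvd_of_le (hN ▸ Subgroup.le_normalizer)
  have hdiv : Nat.card N * N.index = 37 * (36 * (6655 * k)) := N.card_mul_index.trans hG
  rw [hm, mul_assoc] at hdiv
  have hdiv' := Nat.eq_of_mul_eq_mul_left (by norm_num : 0 < 37) hdiv
  obtain ⟨j, hj⟩ : m ∣ 36 * k := by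
    have hc : Nat.Coprime m 6655 := by
      have h5 : ¬ 5 ∣ m := fun h => hfree 5 (Or.inl rfl) (hm ▸ h.mul_left 37)
      have h11 : ¬ 11 ∣ m := fun h => hfree 11 (Or.inr rfl) (hm ▸ h.mul_left 37)
      rw [show (6655 : ℕ) = 5 * 11 ^ 3 by norm_num]
      exact Nat.Coprime.mul_right ((Nat.Prime.coprime_iff_not_dvd (by norm_num)).2 h5).symm
        (((Nat.Prime.coprime_iff_not_dvd (by norm_num)).2 h11).symm.pow_right 3)
    refine (Nat.Coprime.dvd_mul_left hc).1 ?_
    rw [show 6655 * (36 * k) = 36 * (6655 * k) by ring, ← hdiv']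
    exact dvd_mul_right _ _
  have hidx : N.index = 6655 * j := by
    have hmpos : 0 < m := by
      have := Nat.card_pos (α := N); omega
    refine Nat.eq_of_mul_eq_mul_left hmpos ?_
    rw [hdiv', show 36 * (6655 * k) = 6655 * (36 * k) by ring, hj]
    ring
  have hjd : j ∣ 432 :=
    (Dvd.intro_left m hj.symm).trans (Nat.mul_dvd_mul_left 36 hk12)
  have hjle : j ≤ 432 := Nat.le_of_dvd (by norm_num) hjd
  rw [hcount, hidx] at hmod
  have key : ∀ j < 433, j ∣ 432 → 6655 * j % 37 ≠ 1 := by decide +kernel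
  exact key j (by omega) hjd hmod

end H66.Eleven
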