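import Cfsg.Agent.H63.Eleven.AGood
import Cfsg.Agent.H66.Eleven.CentT
import Cfsg.Agent.H66.Eleven.U121

/-!
For odd `v` the swapping involution of a line fixes no point (S3403, case A).
-/

set_option autoImplicit false
set_option linter.unusedSectionVars false

open MulAction H63.Eleven

namespace H66.Eleven

universe u v

variable {G : Type u} {Ω : Type v} [Group G] [Finite G] [MulAction G Ω] (A : ACore G Ω)

include A in
theorem fix_even (hu : Odd A.u) {t : G} (ht : t * t = 1) : Even (fixSet Ω t).ncard := by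
  haveI := finiteΩ A
  haveI : Fact (Nat.Prime 2) := ⟨Nat.prime_two⟩
  have h := ncard_modEq_fix (p := 2) (g := t) (by rw [pow_two, ht]) (Set.univ : Set Ω)
    (fun c _ => Set.mem_univ _)
  rw [Set.ncard_univ, A.card_points] at h
  have h1 : {c : Ω | c ∈ Set.univ ∧ t • c = c} = fixSet Ω t := by ext c; simp
  rw [h1] at h
  obtain ⟨r, hr⟩ := hu
  rw [Nat.even_iff]
  unfold Nat.ModEq at h
  omega

namespace Frame

variable {A} {a b : Ω} (F : Frame A a b)

include F in
/-- `f = 2` or `f = 10 v₀ + 2`. -/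
theorem fix_cases (hv : Odd A.v) (hu : Odd A.u) {t : G} (ht : t * t = 1) (ht1 : t ≠ 1)
    (hta : t • a = a) (htb : t • b = b) :
    (fixSet Ω t).ncard = 2 ∨ (fixSet Ω t).ncard = 10 * Nat.card (CV A a b t) + 2 := by
  haveI := finiteΩ A
  have h1 := F.fix_bound hv hu ht ht1 hta htb
  obtain ⟨q, hq⟩ := F.dvd_fix_sub hv hu ht ht1 hta htb
  have h2 : 2 ≤ (fixSet Ω t).ncard := by
    rw [← Set.ncard_pair F.hab]
    exact Set.ncard_le_ncard (Set.insert_subset hta (Set.singleton_subset_iff.2 htb))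
  obtain ⟨r, hr⟩ := fix_even A hu ht
  have hv0 : Odd (Nat.card (CV A a b t)) := by
    refine Odd.of_dvd_nat hv ?_
    rw [← A.card_V a b F.hab]
    exact Subgroup.card_dvd_of_le inf_le_left
  obtain ⟨s, hs⟩ := hv0
  rw [hs] at hq h1 ⊢
  have hq2 : q ≤ 2 := by
    have h3 : (fixSet Ω t).ncard - 2 ≤ 5 * (2 * s + 1) * 2 := by omega
    rw [hq] at h3
    exact Nat.le_of_mul_le_mul_left h3 (by omega)
  interval_cases q <;> omega

/-- A prime divisor of the order of an element of `W a ⊓ stabilizer b` commuting with `w` divides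
the number of fixed points of `w`. -/
theorem prime_dvd_fix {p : ℕ} [Fact p.Prime] {x : G} (hx : x ∈ A.W a) (hxb : x • b = b)
    (hxp : x ^ p = 1) (hx1 : x ≠ 1) : p ∣ (fixSet Ω F.w).ncard := by
  haveI := finiteΩ A
  refine prime_dvd_ncard hxp _ ?_ ?_
  · intro c (hc : F.w • c = c)
    show F.w • x • c = x • c
    rw [← mul_smul, ← F.wV x hx hxb, mul_smul, hc]
  · intro c (hc : F.w • c = c) hxc
    exact F.wfpf c ((A.V_fix a b x F.hab hx hxb hx1 c).1 hxc) hc

include F in
theorem inv_inverts {t : G} (ht : t * t = 1) (hta : t • a = a) (htb : t • b = b)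
    (hCV : CV A a b t = ⊥) {x : G} (hx : x ∈ A.W a) (hxb : x • b = b) :
    t * x * t = x⁻¹ := by
  let V : Subgroup G := A.W a ⊓ MulAction.stabilizer G b
  have htinv : t⁻¹ = t := inv_eq_of_mul_eq_one_right ht
  have hconj : ∀ z : V, t * (z : G) * t ∈ V := by
    intro z
    constructor
    · have h := W_conj_fix A hta z.2.1
      rwa [htinv] at h
    · exact Subgroup.mul_mem _ (Subgroup.mul_mem _ htb z.2.2) htb
  let f : V → V := fun z => ⟨(z : G)⁻¹ * (t * (z : G) * t), V.mul_mem (V.inv_mem z.2) (hconj z)⟩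
  have hinj : Function.Injective f := by
    intro z z' h
    have h' : (z : G)⁻¹ * (t * (z : G) * t) = (z' : G)⁻¹ * (t * (z' : G) * t) :=
      congrArg Subtype.val h
    have hmem : (z' : G) * (z : G)⁻¹ ∈ CV A a b t := by
      refine ⟨V.mul_mem z'.2 (V.inv_mem z.2), mem_cent_iff.2 ?_⟩
      show (z' : G) * (z : G)⁻¹ * t = t * ((z' : G) * (z : G)⁻¹)
      calc (z' : G) * (z : G)⁻¹ * t = (z' : G) * ((z : G)⁻¹ * (t * (z : G) * t)) * t⁻¹ * (z : G)⁻¹ := by
            group
        _ = t * ((z' : G) * (z : G)⁻¹) := by rw [h']; group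
    rw [hCV, Subgroup.mem_bot, mul_inv_eq_one] at hmem
    exact Subtype.ext hmem.symm
  obtain ⟨z, hz⟩ := (Finite.injective_iff_surjective.1 hinj) ⟨x, hx, hxb⟩
  have hz' : (z : G)⁻¹ * (t * (z : G) * t) = x := congrArg Subtype.val hz
  rw [← hz', mul_inv_rev, mul_inv_rev, mul_inv_rev, inv_inv, htinv]
  simp [mul_assoc, ht]

include F in
theorem inv2_card {t : G} (hv : Odd A.v) (hu : Odd A.u) (ht : t * t = 1) (ht1 : t ≠ 1)
    (hta : t • a = a) (htb : t • b = b) (hCV : CV A a b t = ⊥) :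
    (inv2 G a b).ncard = A.v := by
  have htW := not_mem_W_of_inv A hv hu ht ht1 a
  let V : Subgroup G := A.W a ⊓ MulAction.stabilizer G b
  have heq : inv2 G a b = Set.range fun x : V => (x : G) * t := by
    ext g
    constructor
    · rintro ⟨hg, hg1, hga, hgb⟩
      obtain ⟨i, x, hx, hxb, hgx | hgx⟩ := F.decomp hv ht ht1 htW hta htb (m := g) ⟨hga, hgb⟩
      · exact absurd hgx (F.ne_ypow_mul hg (not_mem_W_of_inv A hv hu hg hg1 a) hx hxb i)
      · have hc : Commute (F.y ^ (i : ℕ)) (x * t) :=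
          Commute.mul_right (Commute.pow_right (F.yV x hx hxb) _).symm
            (Commute.pow_right (F.yT t ht hta htb) _).symm
        have hxt : x * t * (x * t) = 1 := by
          rw [show x * t * (x * t) = x * (t * x * t) by group,
            F.inv_inverts ht hta htb hCV hx hxb, mul_inv_cancel]
        have h2 : F.y ^ (((i + i : Fin 5)) : ℕ) = 1 := by
          rw [pow_fin_add F.y5]
          have h := hg
          rw [hgx, mul_assoc (F.y ^ (i : ℕ)), hc.symm.mul_mul_mul_comm, hxt, mul_one] at h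
          exact h
        have hi : i = 0 := by
          by_contra h0
          refine F.y_ne_one (Subgroup.mem_bot.1 (mem_of_pow_fin_mem ⊥ F.hy (i := i + i) ?_
            (Subgroup.mem_bot.2 h2)))
          exact fun h => h0 ((by decide +revert : ∀ d : Fin 5, d + d = 0 → d = 0) i h)
        refine ⟨⟨x, hx, hxb⟩, ?_⟩
        show x * t = g
        rw [hgx, hi, Fin.val_zero, pow_zero, one_mul]
    · rintro ⟨⟨x, hx, hxb⟩, rfl⟩
      refine ⟨?_, fun h => htW ?_, ?_, ?_⟩
      · show x * t * (x * t) = 1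
        rw [show x * t * (x * t) = x * (t * x * t) by group,
          F.inv_inverts ht hta htb hCV hx hxb, mul_inv_cancel]
      · rw [← inv_inv t, ← mul_eq_one_iff_eq_inv.1 h]
        exact inv_mem hx
      · show (x * t) • a = a
        rw [mul_smul, hta, smul_of_mem A hx]
      · show (x * t) • b = b
        rw [mul_smul, htb, hxb]
  rw [heq, Set.ncard_range_of_injective fun x y h => Subtype.ext (mul_right_cancel h)]
  exact A.card_V a b F.hab

/-- For odd `u` and `v` the swapping involution fixes no point. -/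
theorem w_fpf (hv : Odd A.v) (hu : Odd A.u) : ∀ c : Ω, F.w • c ≠ c := by
  haveI := finiteΩ A
  intro c hc
  obtain ⟨d, hdc, hd⟩ := exists_second_fix A hu F.ww hc
  obtain ⟨g, hgc, hgd⟩ := A.twoTrans c d a b hdc.symm F.hab
  have hw1 : F.w ≠ 1 := fun h => by
    have h1 := F.wa
    rw [h, one_smul] at h1
    exact F.hab h1
  obtain ⟨t, ht⟩ : ∃ t, t = g * F.w * g⁻¹ := ⟨_, rfl⟩
  have ht2 : t * t = 1 := ht ▸ conj_sq_iff.2 F.ww
  have ht1 : t ≠ 1 := fun h => hw1 (by rw [ht, mul_inv_eq_one, mul_eq_left] at h; exact h)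
  have hta : t • a = a := by
    have h := (conj_mem_iff (g := g)).2 hc
    rwa [← ht, hgc] at h
  have htb : t • b = b := by
    have h := (conj_mem_iff (g := g)).2 hd
    rwa [← ht, hgd] at h
  have hfw : (fixSet Ω F.w).ncard = (fixSet Ω t).ncard :=
    ncard_fix_eq A hv hu F.ww hw1 hc ht2 ht1 hta
  have hCV : CV A a b t = ⊥ := by
    rw [← Subgroup.card_eq_one]
    by_contra h1
    obtain ⟨p, hp, hpd⟩ := Nat.exists_prime_and_dvd h1
    haveI := Fact.mk hp
    obtain ⟨⟨x, hx⟩, hord⟩ := exists_prime_orderOf_dvd_card' p hpd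
    rw [Subgroup.orderOf_mk] at hord
    have hx1 : x ≠ 1 := fun h => by rw [h, orderOf_one] at hord; exact hp.one_lt.ne hord
    have hpf := F.prime_dvd_fix hx.1.1 hx.1.2 (hord ▸ pow_orderOf_eq_one x) hx1
    rw [hfw] at hpf
    have hpf2 := (dvd_mul_of_dvd_right hpd 5).trans (F.dvd_fix_sub hv hu ht2 ht1 hta htb)
    have h2 : 2 ≤ (fixSet Ω t).ncard := by
      rw [← Set.ncard_pair F.hab]
      exact Set.ncard_le_ncard (Set.insert_subset hta (Set.singleton_subset_iff.2 htb))
    have h3 : p ∣ 2 := by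
      have := Nat.dvd_sub hpf hpf2
      rwa [Nat.sub_sub_self h2] at this
    rw [(Nat.prime_dvd_prime_iff_eq hp Nat.prime_two).1 h3] at hpd
    have h4 : 2 ∣ A.v := hpd.trans (A.card_V a b F.hab ▸ Subgroup.card_dvd_of_le inf_le_left)
    rw [← even_iff_two_dvd] at h4
    exact Nat.not_even_iff_odd.2 hv h4
  have hcount := count_eq A hv hu F.hab ht2 ht1 hta
  rw [(F.ncard_swap2 hv hu ⟨t, ht2, ht1, hta, htb⟩).1 ⟨c, hc⟩,
    F.inv2_card hv hu ht2 ht1 hta htb hCV] at hcount
  have hvpos := v_pos A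
  obtain ⟨r, hr⟩ := id hu
  have hu5 := A.u_mod
  have hu1 := A.one_lt_u
  have hfc := F.fix_cases hv hu ht2 ht1 hta htb
  rw [hCV, Subgroup.card_bot] at hfc
  rcases hfc with hf | hf <;> rw [hf] at hcount
  · rw [show 11 * A.u + 1 - 2 = 11 * A.u - 1 by omega, show 2 - 1 = 1 from rfl, mul_one] at hcount
    have h1 : A.v * 120 ≤ A.v * (11 * A.u - 1) := Nat.mul_le_mul_left _ (by omega)
    omega
  · rw [show 10 * 1 + 2 = 12 from rfl, show 11 * A.u + 1 - 12 = 11 * (A.u - 1) by omega,
      show 12 - 1 = 11 from rfl] at hcount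
    have h1 : A.v * (A.u - 1) = 60 * (1 + A.v) := by
      refine Nat.eq_of_mul_eq_mul_left (by norm_num : 0 < 11) ?_
      rw [show 11 * (A.v * (A.u - 1)) = A.v * (11 * (A.u - 1)) by ring, hcount]
      ring
    have hv60 : A.v ∣ 60 := by
      refine (Nat.dvd_add_right (Dvd.intro 60 rfl)).1 ?_
      exact Dvd.intro (A.u - 1) (h1.trans (by ring))
    have hv15 : A.v ∣ 15 := by
      have hc4 : Nat.Coprime A.v 4 := by
        rw [show (4 : ℕ) = 2 ^ 2 from rfl]
        exact (Nat.coprime_two_right.2 hv).pow_right 2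
      exact hc4.dvd_of_dvd_mul_left (show A.v ∣ 4 * 15 from hv60)
    have h5 : ¬ 5 ∣ A.v := by
      intro h
      haveI : Fact (Nat.Prime 5) := ⟨by norm_num⟩
      rw [← A.card_V a b F.hab] at h
      obtain ⟨⟨x, hx⟩, hord⟩ := exists_prime_orderOf_dvd_card' 5 h
      rw [Subgroup.orderOf_mk] at hord
      have hx1 : x ≠ 1 := fun e => by rw [e, orderOf_one] at hord; norm_num at hord
      have hpf := F.prime_dvd_fix hx.1 hx.2 (hord ▸ pow_orderOf_eq_one x) hx1
      rw [hfw, hf] at hpf
      norm_num at hpf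
    have hle : A.v ≤ 15 := Nat.le_of_dvd (by norm_num) hv15
    have hv13 : A.v = 1 ∨ A.v = 3 := by interval_cases h : A.v <;> omega
    rcases hv13 with h | h
    · rw [h] at h1
      exact false_u121 A (by omega) (h ▸ one_dvd 6)
    · rw [h] at h1
      have hu81 : A.u = 81 := by omega
      haveI : Fact (Nat.Prime 3) := ⟨Nat.prime_three⟩
      obtain ⟨⟨x, hx⟩, hord⟩ := exists_prime_orderOf_dvd_card'
        (G := ↥(A.W a ⊓ MulAction.stabilizer G b : Subgroup G)) 3 (by rw [A.card_V a b F.hab, h])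
      rw [Subgroup.orderOf_mk] at hord
      have hx1 : x ≠ 1 := fun e => by rw [e, orderOf_one] at hord; norm_num at hord
      have h3 := prime_dvd_ncard (hord ▸ pow_orderOf_eq_one x) (A.line a b)ᶜ
        (fun e he h' => he (by
          have h4 := (A.V_fix a b x F.hab hx.1 hx.2 hx1 (x • e)).2 h'
          rwa [MulAction.injective x h4] at h'))
        (fun e he h' => he ((A.V_fix a b x F.hab hx.1 hx.2 hx1 e).1 h'))
      rw [Set.ncard_compl, A.card_points, ← Nat.card_coe_set_eq, A.line_card a b F.hab, hu81] at h3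
      norm_num at h3

end Frame

theorem exists_good_odd (hv : Odd A.v) : ∃ _T : A.Good, A.HasSigma ∨ 1 < A.v := by
  haveI := finiteΩ A
  have hu := odd_u' A hv
  obtain ⟨a, b, hab⟩ := exists_pair A
  obtain ⟨F⟩ := frame_exists A hab
  have hfpf := F.w_fpf hv hu
  refine ⟨{ a := a, b := b, hab := hab, y := F.y, y_order := F.hy, ya := F.ya, yb := F.yb,
            y_comm := F.yV, w := F.w, ww := F.ww, wa := F.wa, wb := F.wb, wy := F.wy,
            w_comm := F.wV, w_fpf := hfpf, same := ?_ }, ?_⟩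
  · rintro g ⟨h, rfl⟩ hga hgb
    have hg : h * F.w * h⁻¹ * (h * F.w * h⁻¹) = 1 := conj_sq_iff.2 F.ww
    obtain ⟨i, x, hx, hxb, he⟩ := F.wclass _ hg hga hgb (fun c _ hc => hfpf (h⁻¹ • c) (by
      rw [mul_smul, mul_smul, smul_eq_iff_eq_inv_smul] at hc
      exact hc))
    have hx1 : x = 1 :=
      swap_sq A hv hab F.ww F.wy (F.yV x hx hxb) (F.wV x hx hxb) hx hxb i (he ▸ hg)
    exact ⟨i, by rw [he, hx1, mul_one]⟩
  · by_cases h1 : 1 < A.v
    · exact Or.inr h1
    left
    have hv1 : A.v = 1 := by have := v_pos A; omega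
    by_cases h10 : ∃ c d : Ω, c ≠ d ∧ Nat.card (M2 G c d) = 10 * A.v
    · obtain ⟨c, d, hcd, hM⟩ := h10
      haveI : Fact (Nat.Prime 2) := ⟨Nat.prime_two⟩
      obtain ⟨t', hord⟩ := exists_prime_orderOf_dvd_card' 2
        (show 2 ∣ Nat.card (M2 G c d) by rw [hM, hv1]; norm_num)
      rw [← Subgroup.orderOf_coe] at hord
      obtain ⟨t, htc, htd⟩ := t'
      obtain ⟨ht, ht1⟩ := orderOf_two_iff.1 hord
      exact ⟨c, d, t, hcd, htc, htd,
        by rw [pow_five_eq_self ht]; exact not_mem_W_of_inv A hv hu ht ht1 c⟩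
    exfalso
    push Not at h10
    have hM5 : ∀ c d : Ω, c ≠ d → Nat.card (M2 G c d) = 5 := fun c d hcd => by
      rw [(card_M_cases A hcd).resolve_right (h10 c d hcd), hv1]
    have hZ : Cfsg.IsZassenhausGroup G Ω := by
      refine ⟨⟨fun {g h} e => inv_mul_eq_one.1 (A.faithful _ fun c => by
        rw [mul_smul, ← e, inv_smul_smul])⟩, ?_, ?_, ⟨F.y, F.y_ne_one, a, b, hab, F.ya, F.yb⟩, ?_⟩
      · refine MulAction.is_two_pretransitive_iff.2 ?_
        intro p q p' q' hpq hpq'
        exact A.twoTrans p q p' q' hpq hpq'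
      · intro g p q r hpq hqr hpr hp hq hr
        obtain ⟨F'⟩ := frame_exists A hpq
        obtain ⟨i, x, hx, hxq, he⟩ := M_decomp A hpq ((hM5 p q hpq).trans (by rw [hv1]))
          F'.hy F'.ya F'.yb F'.fix (m := g) ⟨hp, hq⟩
        have hx1 : x = 1 := by
          have hc := A.card_V p q hpq
          rw [hv1, Subgroup.card_eq_one] at hc
          have hm : x ∈ A.W p ⊓ MulAction.stabilizer G q := ⟨hx, hxq⟩
          rwa [hc, Subgroup.mem_bot] at hm
        rw [hx1, mul_one] at he
        by_cases hi : i = 0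
        · rw [he, hi, Fin.val_zero, pow_zero]
        · rcases F'.fix_of_pow hi (he ▸ hr : F'.y ^ (i : ℕ) • r = r) with h | h
          · exact absurd h.symm hpr
          · exact absurd h.symm hqr
      · intro N hN hNt
        refine ⟨a, fun hbot => ?_⟩
        haveI := A.simple
        rcases Subgroup.Normal.eq_bot_or_eq_top hN with h | h
        · obtain ⟨⟨n, hn⟩, hna⟩ := hNt.exists_smul_eq a b
          rw [h, Subgroup.mem_bot] at hn
          subst hn
          exact hab ((one_smul G a).symm.trans hna)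
        · have hy : (⟨F.y, h ▸ Subgroup.mem_top F.y⟩ : N) ∈ MulAction.stabilizer N a := F.ya
          rw [hbot, Subgroup.mem_bot] at hy
          exact F.y_ne_one (congrArg Subtype.val hy)
    rcases H66.Feit.ito_dichotomy (Nat.card G) rfl hZ hab
      (show Odd (Nat.card (M2 G a b)) by rw [hM5 a b hab]; decide) with h | ⟨-, h⟩
    · rw [A.card_points, show Nat.card ↥(MulAction.stabilizer G a ⊓ MulAction.stabilizer G b) = 5
        from hM5 a b hab] at h
      have := A.one_lt_u
      omega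
    · rw [A.card_points] at h
      obtain ⟨r, hr⟩ := hu
      rw [Nat.odd_iff] at h
      omega

end H66.Eleven
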