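import Cfsg.Agent.H66.Eleven.Swap
import Cfsg.Agent.H6.Transfer
import Cfsg.Agent.H85.BrauerSuzuki

/-!
`u` is odd when `v` is odd (S3403, case A).
-/

set_option autoImplicit false
set_option linter.unusedSectionVars false

open MulAction H63.Eleven

namespace H66.Eleven

universe u v

variable {G : Type u} {Ω : Type v} [Group G] [Finite G] [MulAction G Ω] (A : ACore G Ω)

theorem orderOf_two_iff {g : G} : orderOf g = 2 ↔ g * g = 1 ∧ g ≠ 1 := by
  rw [orderOf_eq_iff (by norm_num), pow_two]
  refine and_congr_right fun _ => ⟨fun h => by simpa using h 1 (by norm_num) (by norm_num), ?_⟩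
  intro h m hm hm'
  obtain rfl : m = 1 := by omega
  simpa using h

include A in
theorem not_index_two (M : Subgroup G) [M.Normal] : M.index ≠ 2 := by
  haveI := A.simple
  intro h
  rcases Subgroup.Normal.eq_bot_or_eq_top (inferInstance : M.Normal) with h' | h'
  · rw [h', Subgroup.index_bot] at h
    obtain ⟨a, b, hab⟩ := exists_pair A
    have := card_G A hab
    have hpos : 0 < Nat.card (M2 G a b) := Nat.card_pos
    have hu := A.one_lt_u
    rw [this] at h
    have h1 : 1 ≤ 11 * A.u * Nat.card (M2 G a b) := by nlinarith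
    nlinarith
  · rw [h', Subgroup.index_top] at h
    norm_num at h

/-- The case `|M| = 10 v` with `u` even, by transfer. -/
theorem false_of_ten (hv : Odd A.v) (hu : Even A.u) {a b : Ω} (hab : a ≠ b)
    (hM : Nat.card (M2 G a b) = 10 * A.v) : False := by
  haveI := finiteΩ A
  haveI : Fact (Nat.Prime 2) := ⟨Nat.prime_two⟩
  obtain ⟨⟨t, ht⟩, hord⟩ := exists_prime_orderOf_dvd_card' 2
    (show 2 ∣ Nat.card (M2 G a b) by rw [hM]; exact Dvd.intro (5 * A.v) (by ring))
  rw [Subgroup.orderOf_mk] at hord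
  have ht2 := orderOf_two_iff.1 hord
  have htW : t ∉ A.W a := fun h => ht2.2 (sq_eq_one_of_odd A hv hab h ht.2 ht2.1)
  let S := MulAction.stabilizer G a
  let W' : Subgroup S := (A.W a).subgroupOf S
  haveI : W'.Normal := ⟨fun x hx g => W_conj_fix A (x := (x : G)) g.2 hx⟩
  let t' : S := ⟨t, ht.1⟩
  obtain ⟨P0, hP0⟩ := (IsPGroup.of_card (n := 1) (by
    rw [Nat.card_zpowers, Subgroup.orderOf_mk, hord, pow_one]) :
      IsPGroup 2 (Subgroup.zpowers t')).exists_le_sylow
  have htP0 : t' ∈ (P0 : Subgroup S) := hP0 (Subgroup.mem_zpowers _)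
  have hr10 : W'.relIndex (P0 : Subgroup S) ∣ 10 := by
    have h1 := Subgroup.relIndex_dvd_index_of_normal W' (P0 : Subgroup S)
    have h2 := index_W A hab
    rw [hM] at h2
    have h3 : W'.index = 10 := Nat.eq_of_mul_eq_mul_right (v_pos A) h2
    rwa [h3] at h1
  have hr2 : W'.relIndex (P0 : Subgroup S) = 2 := by
    obtain ⟨k, hk⟩ := P0.2.exists_card_eq
    have h1 : W'.relIndex (P0 : Subgroup S) ∣ 2 ^ k := hk ▸ Subgroup.relIndex_dvd_card _ _
    obtain ⟨j, -, hj⟩ := (Nat.dvd_prime_pow Nat.prime_two).1 h1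
    rw [hj] at hr10 ⊢
    rcases j with _ | _ | j
    · exfalso
      rw [pow_zero, Subgroup.relIndex_eq_one] at hj
      exact htW (hj htP0)
    · rfl
    · exfalso
      have h4 : (4 : ℕ) ∣ 10 := (Dvd.intro (2 ^ j) (by ring)).trans hr10
      norm_num at h4
  have hinj : Function.Injective S.subtype := S.subtype_injective
  let PG : Subgroup G := (P0 : Subgroup S).map S.subtype
  have hcard : Nat.card PG = 2 ^ (Nat.card G).factorization 2 := by
    rw [Subgroup.card_map_of_injective hinj, P0.card_eq_multiplicity,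
      card_G A hab, card_stab A hab]
    congr 1
    have hn : ¬ 2 ∣ 11 * A.u + 1 := by
      obtain ⟨r, hr⟩ := hu
      omega
    have hpos : 11 * A.u * Nat.card (M2 G a b) ≠ 0 := by
      have := A.one_lt_u
      have := Nat.card_pos (α := M2 G a b)
      positivity
    rw [Nat.factorization_mul (by omega) hpos, Finsupp.add_apply,
      Nat.factorization_eq_zero_of_not_dvd hn, zero_add]
  let P : Sylow 2 G := Sylow.ofCard PG hcard
  let Q : Subgroup G := (W' ⊓ (P0 : Subgroup S)).map S.subtype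
  have hQP : Q ≤ (P : Subgroup G) := Subgroup.map_mono inf_le_right
  have hQi : Q.relIndex (P : Subgroup G) = 2 := by
    show Q.relIndex PG = 2
    rw [Subgroup.relIndex_map_map_of_injective _ _ hinj, Subgroup.inf_relIndex_right, hr2]
  rcases H6.thompson_transfer P Q hQP hQi t hord with ⟨M, hMn, hM2, -⟩ | ⟨g, hg⟩
  · exact not_index_two A M hM2
  · obtain ⟨q, hq, hqe⟩ := Subgroup.mem_map.1 hg
    have hW : g * t * g⁻¹ ∈ A.W a := hqe ▸ hq.1
    have hsq : g * t * g⁻¹ * (g * t * g⁻¹) = 1 := by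
      rw [show g * t * g⁻¹ * (g * t * g⁻¹) = g * (t * t) * g⁻¹ by group, ht2.1, mul_one,
        mul_inv_cancel]
    have hfix : ∀ c : Ω, t • c = c → (g * t * g⁻¹) • (g • c) = g • c := fun c hc => by
      rw [mul_smul, inv_smul_smul, mul_smul, hc]
    obtain ⟨c, hca, hc⟩ : ∃ c, c ≠ a ∧ (g * t * g⁻¹) • c = c := by
      rcases eq_or_ne (g • a) a with h | h
      · exact ⟨g • b, fun h' => hab (MulAction.injective g (h.trans h'.symm)), hfix b ht.2⟩
      · exact ⟨g • a, h, hfix a ht.1⟩
    have h1 := sq_eq_one_of_odd A hv hca.symm hW hc hsq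
    rw [mul_inv_eq_one] at h1
    exact ht2.2 (mul_eq_left.1 h1)

theorem circulant_complete_aux : ∀ b₁ b₂ : Bool, ∀ d j : Fin 5, d ≠ 0 → j ≠ 0 → j ≠ d →
    ![true, b₁, b₂, b₂, b₁] d = true → ![true, b₁, b₂, b₂, b₁] j = true →
      ![true, b₁, b₂, b₂, b₁] (j - d) = true → b₁ = true ∧ b₂ = true := by
  decide +kernel

theorem circulant_complete (R : Fin 5 → Bool) (hneg : ∀ i, R i = true → R (-i) = true)
    (d j : Fin 5) (hd : d ≠ 0) (hj : j ≠ 0) (hjd : j ≠ d) (h1 : R d = true) (h2 : R j = true)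
    (h3 : R (j - d) = true) : ∀ i, i ≠ 0 → R i = true := by
  have h14 : R 4 = R 1 := Bool.eq_iff_iff.2 ⟨hneg 4, hneg 1⟩
  have h23 : R 3 = R 2 := Bool.eq_iff_iff.2 ⟨hneg 3, hneg 2⟩
  have hR : ∀ i, i ≠ 0 → R i = ![true, R 1, R 2, R 2, R 1] i := by
    intro i hi
    fin_cases i
    · exact absurd rfl hi
    · rfl
    · rfl
    · exact h23
    · exact h14
  obtain ⟨e1, e2⟩ := circulant_complete_aux (R 1) (R 2) d j hd hj hjd ((hR d hd).symm.trans h1)
    ((hR j hj).symm.trans h2) ((hR (j - d) (sub_ne_zero.2 hjd)).symm.trans h3)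
  intro i hi
  rw [hR i hi, e1, e2]
  fin_cases i <;> rfl

/-- Five involutions fixing a point, permuted transitively by `y`, none commuting with `y`, cannot
have commuting members all whose products are again among them. -/
theorem no_five {H : Type*} [Group H] [Finite H] {s y : H} {J : Set H} (hy : y ^ 5 = 1)
    (hJ : J = Set.range fun i : Fin 5 => y ^ (i : ℕ) * s * (y ^ (i : ℕ))⁻¹)
    (hinj : Function.Injective fun i : Fin 5 => y ^ (i : ℕ) * s * (y ^ (i : ℕ))⁻¹)
    (hinv : ∀ g ∈ J, g * g = 1 ∧ g ≠ 1)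
    (hprod : ∀ g ∈ J, ∀ h ∈ J, g ≠ h → Commute g h → g * h ∈ J)
    (hcom : ∃ d : Fin 5, d ≠ 0 ∧ Commute s (y ^ (d : ℕ) * s * (y ^ (d : ℕ))⁻¹)) : False := by
  classical
  obtain ⟨c, hc⟩ : ∃ c : Fin 5 → H, c = fun i : Fin 5 => y ^ (i : ℕ) * s * (y ^ (i : ℕ))⁻¹ :=
    ⟨_, rfl⟩
  rw [← hc] at hJ hinj
  have hc0 : c 0 = s := by rw [hc]; simp
  have hmem : ∀ i, c i ∈ J := fun i => hJ ▸ Set.mem_range_self i
  have htrans : ∀ k i, c (k + i) = MulAut.conj (y ^ (k : ℕ)) (c i) := fun k i => by
    rw [hc]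
    simp only [MulAut.conj_apply, pow_fin_add hy]
    group
  have hR : ∀ i j, Commute (c i) (c j) ↔ Commute s (c (j - i)) := fun i j => by
    have h1 := htrans i 0
    have h2 := htrans i (j - i)
    rw [add_zero] at h1
    rw [add_sub_cancel] at h2
    rw [h1, h2, hc0]
    constructor
    · intro h
      refine (MulAut.conj (y ^ (i : ℕ))).injective ?_
      rw [map_mul, map_mul]
      exact h
    · intro h
      exact h.map _
  let R : Fin 5 → Bool := fun i => decide (Commute s (c i))
  have hRneg : ∀ i, R i = true → R (-i) = true := fun i hi => by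
    simp only [R, decide_eq_true_eq] at hi ⊢
    have h1 : Commute (c 0) (c i) := hc0.symm ▸ hi
    have h2 := (hR i 0).1 h1.symm
    rwa [zero_sub] at h2
  obtain ⟨d, hd, hcd⟩ := hcom
  have hcd' : Commute s (c d) := by rw [hc]; exact hcd
  have hne : s ≠ c d := fun h => hd (hinj (hc0.trans h)).symm
  have hp := hprod s (hc0 ▸ hmem 0) (c d) (hmem d) hne hcd'
  rw [hJ] at hp
  obtain ⟨j, hj⟩ := hp
  have hs2 := hinv s (hc0 ▸ hmem 0)
  have hj0 : j ≠ 0 := fun h => by
    rw [h, hc0] at hj
    exact (hinv _ (hmem d)).2 (mul_eq_left.1 hj.symm)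
  have hjd : j ≠ d := fun h => by
    rw [h] at hj
    exact hs2.2 (mul_eq_right.1 hj.symm)
  have h1 : Commute s (c j) := by rw [hj]; exact (Commute.refl s).mul_right hcd'
  have h2 : Commute (c d) (c j) := by rw [hj]; exact hcd'.symm.mul_right (Commute.refl _)
  have hall : ∀ i, R i = true := by
    intro i
    rcases eq_or_ne i 0 with rfl | hi
    · simp [R, hc0]
    · exact circulant_complete R hRneg d j hd hj0 hjd (decide_eq_true hcd') (decide_eq_true h1)
        (decide_eq_true ((hR d j).1 h2)) i hi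
  have hcomm : ∀ g ∈ J, ∀ h ∈ J, Commute g h := by
    intro g hg h hh
    rw [hJ] at hg hh
    obtain ⟨i, rfl⟩ := hg
    obtain ⟨k, rfl⟩ := hh
    exact (hR i k).2 (of_decide_eq_true (hall (k - i)))
  let K : Subgroup H :=
    { carrier := insert 1 J
      one_mem' := Set.mem_insert _ _
      inv_mem' := by
        intro g hg
        rcases hg with rfl | hg
        · simp
        · right
          rw [inv_eq_of_mul_eq_one_right (hinv g hg).1]
          exact hg
      mul_mem' := by
        intro g h hg hh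
        rcases hg with rfl | hg
        · simpa using hh
        rcases hh with rfl | hh
        · simp [hg]
        rcases eq_or_ne g h with rfl | hne
        · exact Or.inl (hinv g hg).1
        · exact Or.inr (hprod g hg h hh hne (hcomm g hg h hh)) }
  have hK : Nat.card K = 6 := by
    show Nat.card ↥(insert 1 J : Set H) = 6
    rw [Nat.card_coe_set_eq, Set.ncard_insert_of_notMem (fun h => (hinv 1 h).2 rfl), hJ,
      Set.ncard_range_of_injective hinj, Nat.card_fin]
  haveI : Fact (Nat.Prime 3) := ⟨Nat.prime_three⟩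
  obtain ⟨⟨g, hg⟩, hord⟩ := exists_prime_orderOf_dvd_card' (G := K) 3 (hK ▸ by norm_num)
  rw [Subgroup.orderOf_mk] at hord
  rcases hg with rfl | hg
  · rw [orderOf_one] at hord; norm_num at hord
  · rw [(orderOf_two_iff).2 (hinv g hg)] at hord; norm_num at hord

/-- The case `|M| = 5 v` with `u` even. -/
theorem false_of_five (hv : Odd A.v) (hu : Even A.u) {a b : Ω} (hab : a ≠ b)
    (hM5 : ∀ c d : Ω, c ≠ d → Nat.card (M2 G c d) = 5 * A.v) : False := by
  classical
  haveI := finiteΩ A
  haveI := Fintype.ofFinite Ω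
  haveI := Fintype.ofFinite G
  haveI : Fact (Nat.Prime 2) := ⟨Nat.prime_two⟩
  have hn : Fintype.card Ω = 11 * A.u + 1 := by rw [← Nat.card_eq_fintype_card, A.card_points]
  have hmemW : ∀ (c : Ω) (g : G), g * g = 1 → g • c = c → g ∈ A.W c := by
    intro c g hg hgc
    obtain ⟨d, hd⟩ : ∃ d, d ≠ c := by
      rcases eq_or_ne a c with rfl | h
      · exact ⟨b, hab.symm⟩
      · exact ⟨a, h⟩
    have h5 : (A.W c).relIndex (MulAction.stabilizer G c) = 5 :=
      Nat.eq_of_mul_eq_mul_right (v_pos A) ((index_W A hd.symm).trans (hM5 c d hd.symm))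
    have h := pow_index_mem A hgc
    rw [h5, show g ^ 5 = g * g * (g * g) * g by simp only [pow_succ, pow_zero, one_mul, mul_assoc],
      hg, one_mul, one_mul] at h
    exact h
  have huniq : ∀ (g : G) (c d : Ω), g * g = 1 → g ≠ 1 → g • c = c → g • d = d → c = d := by
    intro g c d hg hg1 hc hd
    by_contra hne
    exact hg1 (sq_eq_one_of_odd A hv hne (hmemW c g hg hc) hd hg)
  have hex : ∀ g : G, g * g = 1 → ∃ c : Ω, g • c = c := by
    intro g hg
    have h := ncard_modEq_fix (p := 2) (g := g) (by rw [pow_two, hg]) (Set.univ : Set Ω)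
      (fun c _ => Set.mem_univ _)
    rw [Set.ncard_univ, A.card_points] at h
    obtain ⟨c, -, hc⟩ : {c : Ω | c ∈ Set.univ ∧ g • c = c}.Nonempty := by
      refine Set.nonempty_of_ncard_ne_zero fun h0 => ?_
      rw [h0] at h
      obtain ⟨r, hr⟩ := hu
      unfold Nat.ModEq at h
      omega
    exact ⟨c, hc⟩
  let I : Finset G := Finset.univ.filter fun g => g * g = 1 ∧ g ≠ 1
  have hsw : ∀ c d : Ω, c ≠ d → (I.filter fun g => g • c = d).card = 5 := by
    intro c d hcd
    obtain ⟨y, hy, hyc, hyd, hfix, hcomm, -, -, w, ww, wc, wd, wy, -, hwcomm, -, -⟩ :=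
      A.exists_y c d hcd
    have heq : (I.filter fun g => g • c = d) =
        Finset.univ.image fun i : Fin 5 => w * y ^ (i : ℕ) := by
      ext g
      simp only [I, Finset.mem_filter, Finset.mem_univ, true_and, Finset.mem_image]
      constructor
      · rintro ⟨⟨hg, -⟩, hgc⟩
        have hgd : g • d = c := by rw [← hgc, ← mul_smul, hg, one_smul]
        have hm : w * g ∈ M2 G c d :=
          ⟨show (w * g) • c = c by rw [mul_smul, hgc, wd],
            show (w * g) • d = d by rw [mul_smul, hgd, wc]⟩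
        obtain ⟨i, x, hx, hxd, hm'⟩ := M_decomp A hcd (hM5 c d hcd) hy hyc hyd hfix hm
        have hgeq : g = w * y ^ (i : ℕ) * x := by
          rw [mul_assoc, ← hm', ← mul_assoc, ww, one_mul]
        have hx1 : x = 1 := swap_sq A hv hcd ww wy (hcomm x hx hxd) (hwcomm x hx hxd) hx hxd i
          (hgeq ▸ hg)
        exact ⟨i, by rw [hgeq, hx1, mul_one]⟩
      · rintro ⟨i, rfl⟩
        have h : (w * y ^ (i : ℕ)) • c = d := by
          rw [mul_smul, show y ^ (i : ℕ) • c = c from
            Subgroup.pow_mem (MulAction.stabilizer G c) hyc _, wc]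
        refine ⟨⟨wy_sq ww wy _, fun h1 => ?_⟩, h⟩
        rw [h1, one_smul] at h
        exact hcd h
    rw [heq, Finset.card_image_of_injective _ fun i j hij => ?_, Finset.card_univ,
      Fintype.card_fin]
    exact (ypow_mul_inj A hcd hy hyd hfix (one_mem _) (one_mem _)
      (by rw [mul_one, mul_one]; exact mul_left_cancel hij)).1
  have hcount1 : I.card * (11 * A.u) = (11 * A.u + 1) * (11 * A.u) * 5 := by
    have h := Finset.card_mul_eq_card_mul (s := I) (t := (Finset.univ : Finset Ω).offDiag)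
      (fun (g : G) (p : Ω × Ω) => g • p.1 = p.2) (m := 11 * A.u) (n := 5) ?_ ?_
    · rw [h, Finset.offDiag_card, Finset.card_univ, hn]
      congr 1
      rw [Nat.mul_add, mul_one, Nat.add_sub_cancel]
    · intro g hg
      simp only [I, Finset.mem_filter, Finset.mem_univ, true_and] at hg
      obtain ⟨c, hc⟩ := hex g hg.1
      have heq : Finset.bipartiteAbove (fun (g : G) (p : Ω × Ω) => g • p.1 = p.2)
          (Finset.univ : Finset Ω).offDiag g =
            ((Finset.univ : Finset Ω).erase c).image fun d => (d, g • d) := by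
        ext ⟨p, q⟩
        simp only [Finset.mem_bipartiteAbove, Finset.mem_offDiag, Finset.mem_univ, true_and,
          Finset.mem_image, Finset.mem_erase, and_true, Prod.mk.injEq]
        constructor
        · rintro ⟨hpq, h⟩
          exact ⟨p, fun hp => hpq (by rw [hp, hc] at h; rw [hp, h]), rfl, h⟩
        · rintro ⟨d, hd, rfl, rfl⟩
          exact ⟨fun h => hd (huniq g d c hg.1 hg.2 h.symm hc), rfl⟩
      rw [heq, Finset.card_image_of_injective _ fun d e h => (Prod.ext_iff.1 h).1,
        Finset.card_erase_of_mem (Finset.mem_univ c), Finset.card_univ, hn, Nat.add_sub_cancel]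
    · rintro ⟨p, q⟩ hpq
      simp only [Finset.mem_offDiag, Finset.mem_univ, true_and] at hpq
      exact hsw p q hpq
  have hI : I.card = (11 * A.u + 1) * 5 := by
    refine Nat.eq_of_mul_eq_mul_right (by have := A.one_lt_u; omega : 0 < 11 * A.u) ?_
    rw [hcount1]
    ring
  let Jc : Ω → Finset G := fun c => I.filter fun g => g • c = c
  have hsame : ∀ c, (Jc c).card = (Jc a).card := by
    intro c
    obtain ⟨g, hg⟩ : ∃ g : G, g • a = c := by
      have h : c ∈ MulAction.orbit G a := by rw [orbit_top A a]; trivial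
      exact h
    refine (Finset.card_equiv (MulAut.conj g).toEquiv fun x => ?_).symm
    have h1 : g * x * g⁻¹ * (g * x * g⁻¹) = g * (x * x) * g⁻¹ := by group
    simp only [Jc, I, Finset.mem_filter, Finset.mem_univ, true_and, MulEquiv.toEquiv_eq_coe,
      EquivLike.coe_coe, MulAut.conj_apply, h1, ne_eq, mul_inv_eq_one, mul_eq_left]
    rw [← hg, mul_smul, inv_smul_smul, mul_smul, smul_left_cancel_iff]
  have hcount2 : I.card * 1 = Fintype.card Ω * (Jc a).card := by
    have h := Finset.card_mul_eq_card_mul (s := I) (t := (Finset.univ : Finset Ω))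
      (fun (g : G) (c : Ω) => g • c = c) (m := 1) (n := (Jc a).card) ?_ ?_
    · rwa [Finset.card_univ] at h
    · intro g hg
      simp only [I, Finset.mem_filter, Finset.mem_univ, true_and] at hg
      obtain ⟨c, hc⟩ := hex g hg.1
      rw [Finset.card_eq_one]
      refine ⟨c, ?_⟩
      ext d
      simp only [Finset.mem_bipartiteAbove, Finset.mem_univ, true_and, Finset.mem_singleton]
      exact ⟨fun hd => huniq g d c hg.1 hg.2 hd hc, fun h => h ▸ hc⟩
    · intro c _
      exact hsame c
  have hJ5 : (Jc a).card = 5 := by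
    rw [mul_one, hI, hn] at hcount2
    exact (Nat.eq_of_mul_eq_mul_left (by omega) hcount2).symm
  obtain ⟨s, hs⟩ := Finset.card_pos.1 (hJ5 ▸ (by norm_num : 0 < 5))
  simp only [Jc, I, Finset.mem_filter, Finset.mem_univ, true_and] at hs
  obtain ⟨⟨hs2, hs1⟩, hsa⟩ := hs
  obtain ⟨y, hy, hya, hyb, hfix, -⟩ := A.exists_y a b hab
  have hy5 : y ^ 5 = 1 := hy ▸ pow_orderOf_eq_one y
  have hys : ¬ Commute y s := by
    intro h
    have h1 : y • (s • b) = s • b := by rw [← mul_smul, h.eq, mul_smul, hyb]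
    rcases hfix _ h1 with h2 | h2
    · exact hab (MulAction.injective s (hsa.trans h2.symm))
    · exact hab (huniq s a b hs2 hs1 hsa h2)
  obtain ⟨c, hc⟩ : ∃ c : Fin 5 → G, c = fun i : Fin 5 => y ^ (i : ℕ) * s * (y ^ (i : ℕ))⁻¹ :=
    ⟨_, rfl⟩
  have hinj : Function.Injective c := by
    intro i j hij
    by_contra hne
    rw [hc] at hij
    have h1 : y ^ ((-j + i : Fin 5) : ℕ) ∈ Subgroup.centralizer {s} := by
      rw [Subgroup.mem_centralizer_singleton_iff, pow_fin_add hy5, pow_fin_neg hy5]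
      have h2 : (y ^ (j : ℕ))⁻¹ * (y ^ (i : ℕ) * s * (y ^ (i : ℕ))⁻¹) * y ^ (i : ℕ) =
          (y ^ (j : ℕ))⁻¹ * (y ^ (j : ℕ) * s * (y ^ (j : ℕ))⁻¹) * y ^ (i : ℕ) :=
        congrArg (fun z => (y ^ (j : ℕ))⁻¹ * z * y ^ (i : ℕ)) hij
      simp only [mul_assoc, inv_mul_cancel_left, inv_mul_cancel, mul_one] at h2 ⊢
      exact h2
    have h3 := mem_of_pow_fin_mem _ hy (i := -j + i) (fun h0 => hne (neg_add_eq_zero.1 h0).symm) h1
    rw [Subgroup.mem_centralizer_singleton_iff] at h3
    exact hys (by first | exact h3 | exact h3.symm)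
  have hcJ : ∀ i, c i ∈ Jc a := by
    intro i
    have h1 : c i * c i = y ^ (i : ℕ) * (s * s) * (y ^ (i : ℕ))⁻¹ := by rw [hc]; group
    have h2 : y ^ (i : ℕ) ∈ MulAction.stabilizer G a := Subgroup.pow_mem _ hya _
    simp only [Jc, I, Finset.mem_filter, Finset.mem_univ, true_and]
    refine ⟨⟨by rw [h1, hs2, mul_one, mul_inv_cancel], fun h => ?_⟩, ?_⟩
    · simp only [hc, mul_inv_eq_one, mul_eq_left] at h
      exact hs1 h
    · rw [hc]
      exact Subgroup.mul_mem _ (Subgroup.mul_mem _ h2 hsa) (Subgroup.inv_mem _ h2)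
  have hJeq : ((Jc a : Finset G) : Set G) = Set.range c := by
    rw [← Finset.eq_of_subset_of_card_le
      (s := Finset.univ.image c) (t := Jc a) (fun g hg => by
        obtain ⟨i, -, rfl⟩ := Finset.mem_image.1 hg; exact hcJ i)
      (by rw [Finset.card_image_of_injective _ hinj, Finset.card_univ, Fintype.card_fin, hJ5])]
    simp
  by_cases hcom : ∃ d : Fin 5, d ≠ 0 ∧ Commute s (c d)
  · obtain ⟨d, hd, hcd⟩ := hcom
    rw [hc] at hcd hJeq hinj
    refine no_five hy5 hJeq hinj ?_ ?_ ⟨d, hd, hcd⟩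
    · intro g hg
      simp only [Jc, I, Finset.mem_coe, Finset.mem_filter, Finset.mem_univ, true_and] at hg
      exact hg.1
    · intro g hg h hh hne hgh
      simp only [Jc, I, Finset.mem_coe, Finset.mem_filter, Finset.mem_univ, true_and] at hg hh ⊢
      refine ⟨⟨?_, ?_⟩, by rw [mul_smul, hh.2, hg.2]⟩
      · rw [mul_assoc, ← mul_assoc h g h, ← hgh.eq, mul_assoc g h h, hh.1.1, mul_one, hg.1.1]
      · intro h1
        rw [mul_eq_one_iff_eq_inv, inv_eq_of_mul_eq_one_right hh.1.1] at h1
        exact hne h1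
  · push Not at hcom
    have hiso : Cfsg.IsIsolatedInvolution s := by
      refine ⟨orderOf_two_iff.2 ⟨hs2, hs1⟩, fun g hg => ?_⟩
      obtain ⟨x, hx⟩ : ∃ x, x = g * s * g⁻¹ := ⟨_, rfl⟩
      rw [← hx] at hg ⊢
      have hx2 : x * x = 1 := by
        rw [hx, show g * s * g⁻¹ * (g * s * g⁻¹) = g * (s * s) * g⁻¹ by group, hs2, mul_one,
          mul_inv_cancel]
      have hx1 : x ≠ 1 := fun h => hs1 (by
        rw [hx, mul_inv_eq_one] at h; exact mul_eq_left.1 h)
      obtain ⟨e, he⟩ := hex x hx2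
      have hse : s • e = e := huniq x _ e hx2 hx1 (by rw [← mul_smul, ← hg.eq, mul_smul, he]) he
      obtain rfl := huniq s e a hs2 hs1 hse hsa
      have hxJ : x ∈ ((Jc e : Finset G) : Set G) := by
        simp only [Jc, I, Finset.mem_coe, Finset.mem_filter, Finset.mem_univ, true_and]
        exact ⟨⟨hx2, hx1⟩, he⟩
      rw [hJeq] at hxJ
      obtain ⟨i, hi⟩ := hxJ
      rcases eq_or_ne i 0 with rfl | hi0
      · rw [← hi, hc]; simp
      · exact absurd (hi ▸ hg) (hcom i hi0)
    have hz := H85.zStar hiso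
    haveI := A.simple
    rcases Subgroup.Normal.eq_bot_or_eq_top (inferInstance : (Cfsg.pPrimeCore 2 G).Normal) with
      hb | ht
    · refine hs1 (Subgroup.mem_bot.1 ?_)
      have hcen : s ∈ Subgroup.center G := by
        rw [Subgroup.mem_center_iff]
        intro g
        have h := hz g
        rw [hb, Subgroup.mem_bot, mul_inv_eq_one, mul_inv_eq_iff_eq_mul] at h
        exact h.symm
      rcases Subgroup.Normal.eq_bot_or_eq_top (inferInstance : (Subgroup.center G).Normal) with
        h' | h'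
      · rwa [h'] at hcen
      · obtain ⟨g, k, hgk⟩ := A.noncomm
        exact absurd (Subgroup.mem_center_iff.1 (h' ▸ Subgroup.mem_top k : k ∈ Subgroup.center G) g)
          hgk
    · have h1 : Nat.Coprime (Nat.card G) 2 := by
        rw [← Subgroup.card_top (G := G), ← ht]
        exact H1.card_pPrimeCore_coprime 2 G
      have h2 : 2 ∣ Nat.card G := by
        rw [← orderOf_two_iff.2 ⟨hs2, hs1⟩]
        exact orderOf_dvd_natCard s
      exact absurd (h1.symm.eq_one_of_dvd h2) (by norm_num)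

theorem odd_u' (hv : Odd A.v) : Odd A.u := by
  by_contra hu
  rw [Nat.not_odd_iff_even] at hu
  by_cases h10 : ∃ a b : Ω, a ≠ b ∧ Nat.card (M2 G a b) = 10 * A.v
  · obtain ⟨a, b, hab, h⟩ := h10
    exact false_of_ten A hv hu hab h
  · push Not at h10
    obtain ⟨a, b, hab⟩ := exists_pair A
    exact false_of_five A hv hu hab fun c d hcd => (card_M_cases A hcd).resolve_right (h10 c d hcd)

end H66.Eleven
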