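import Cfsg.Agent.H66.Eleven.Basic

/-!
Powers of the element of order five and involutions swapping two points.
-/

set_option autoImplicit false
set_option linter.unusedSectionVars false

open MulAction H63.Eleven

namespace H66.Eleven

universe u v

section General

variable {G : Type*} [Group G] {y : G}

theorem pow_fin_add (hy : y ^ 5 = 1) (i j : Fin 5) :
    y ^ ((i + j : Fin 5) : ℕ) = y ^ (i : ℕ) * y ^ (j : ℕ) := by
  rw [← pow_add, Fin.val_add, ← pow_eq_pow_mod _ hy]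

theorem pow_fin_neg (hy : y ^ 5 = 1) (i : Fin 5) : y ^ ((-i : Fin 5) : ℕ) = (y ^ (i : ℕ))⁻¹ := by
  refine eq_inv_of_mul_eq_one_left ?_
  rw [← pow_fin_add hy, neg_add_cancel, Fin.val_zero, pow_zero]

/-- A subgroup containing a nontrivial power of an element of order five contains it. -/
theorem mem_of_pow_fin_mem (H : Subgroup G) (hy : orderOf y = 5) {i : Fin 5} (hi : i ≠ 0)
    (h : y ^ (i : ℕ) ∈ H) : y ∈ H := by
  have hc : Nat.Coprime (i : ℕ) (orderOf y) := by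
    rw [hy]
    refine ((Nat.Prime.coprime_iff_not_dvd (by norm_num)).2 fun h5 => hi ?_).symm
    ext
    exact Nat.eq_zero_of_dvd_of_lt h5 i.2
  obtain ⟨m, hm⟩ := exists_pow_eq_self_of_coprime hc
  rw [← hm]
  exact pow_mem h m

end General

variable {G : Type u} {Ω : Type v} [Group G] [Finite G] [MulAction G Ω] (A : ACore G Ω)

/-- The map `(i, x) ↦ y ^ i * x` on `Fin 5 × (W a ⊓ stabilizer b)` is injective. -/
theorem ypow_mul_inj {a b : Ω} {y : G} (hab : a ≠ b) (hy : orderOf y = 5) (hyb : y • b = b)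
    (hfix : ∀ c, y • c = c → c = a ∨ c = b) {i j : Fin 5} {x x' : G} (hx : x ∈ A.W a)
    (hx' : x' ∈ A.W a) (h : y ^ (i : ℕ) * x = y ^ (j : ℕ) * x') : i = j ∧ x = x' := by
  have hy5 : y ^ 5 = 1 := hy ▸ pow_orderOf_eq_one y
  have hy1 : y ≠ 1 := fun h => by rw [h, orderOf_one] at hy; norm_num at hy
  have hd : y ^ ((-j + i : Fin 5) : ℕ) = x' * x⁻¹ := by
    rw [pow_fin_add hy5, pow_fin_neg hy5, eq_mul_inv_iff_mul_eq, mul_assoc, h, inv_mul_cancel_left]
  have hij : i = j := by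
    by_contra hne
    refine y_notMem A hab hy1 hyb hfix (mem_of_pow_fin_mem (A.W a) hy (i := -j + i) ?_ ?_)
    · exact fun h0 => hne (neg_add_eq_zero.1 h0).symm
    · rw [hd]; exact mul_mem hx' (inv_mem hx)
  subst hij
  exact ⟨rfl, mul_left_cancel h⟩

/-- When the two-point stabiliser has order `5 v` it consists of the `y ^ i * x`. -/
theorem M_decomp {a b : Ω} {y : G} (hab : a ≠ b) (hM : Nat.card (M2 G a b) = 5 * A.v)
    (hy : orderOf y = 5) (hya : y • a = a) (hyb : y • b = b)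
    (hfix : ∀ c, y • c = c → c = a ∨ c = b) {m : G} (hm : m ∈ M2 G a b) :
    ∃ i : Fin 5, ∃ x, x ∈ A.W a ∧ x • b = b ∧ m = y ^ (i : ℕ) * x := by
  let V : Subgroup G := A.W a ⊓ MulAction.stabilizer G b
  have hV : V ≤ M2 G a b := fun x hx => ⟨A.W_le a hx.1, hx.2⟩
  have hyM : y ∈ M2 G a b := ⟨hya, hyb⟩
  let f : Fin 5 × V → M2 G a b := fun p =>
    ⟨y ^ (p.1 : ℕ) * p.2, mul_mem (pow_mem hyM _) (hV p.2.2)⟩
  have hinj : Function.Injective f := by
    rintro ⟨i, x⟩ ⟨j, x'⟩ h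
    obtain ⟨rfl, hxx⟩ := ypow_mul_inj A hab hy hyb hfix x.2.1 x'.2.1 (congrArg Subtype.val h)
    exact Prod.ext rfl (Subtype.ext hxx)
  have hbij : Function.Bijective f :=
    hinj.bijective_of_nat_card_le (by
      rw [hM, Nat.card_prod, Nat.card_fin, A.card_V a b hab])
  obtain ⟨⟨i, x⟩, hix⟩ := hbij.2 ⟨m, hm⟩
  exact ⟨i, x, x.2.1, x.2.2, (congrArg Subtype.val hix).symm⟩

/-- An involution swapping the ends of a line, written as `w * y ^ i * x`, is `w * y ^ i`. -/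
theorem swap_sq {a b : Ω} {y w x : G} (hv : Odd A.v) (hab : a ≠ b) (ww : w * w = 1)
    (wy : w * y * w⁻¹ = y⁻¹) (hxy : x * y = y * x) (hxw : x * w = w * x) (hx : x ∈ A.W a)
    (hxb : x • b = b) (i : ℕ) (hg : w * y ^ i * x * (w * y ^ i * x) = 1) : x = 1 := by
  refine sq_eq_one_of_odd A hv hab hx hxb ?_
  have hwinv : w⁻¹ = w := inv_eq_of_mul_eq_one_right ww
  have h1 : w * y ^ i * w = (y ^ i)⁻¹ := by
    have h2 : (w * y * w⁻¹) ^ i = w * y ^ i * w⁻¹ := conj_pow
    rw [wy, inv_pow] at h2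
    rw [h2, hwinv]
  have hc : Commute x (w * y ^ i) := (Commute.mul_right hxw (Commute.pow_right hxy i))
  have h3 : w * y ^ i * x * (w * y ^ i * x) = w * y ^ i * (w * y ^ i) * (x * x) := by
    rw [mul_assoc (w * y ^ i) x, ← mul_assoc x (w * y ^ i) x, hc.eq]
    group
  rw [h3, ← mul_assoc (w * y ^ i) w (y ^ i), h1, inv_mul_cancel, one_mul] at hg
  exact hg

/-- The elements `w * y ^ i` are swapping involutions. -/
theorem wy_sq {y w : G} (ww : w * w = 1) (wy : w * y * w⁻¹ = y⁻¹) (i : ℕ) :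
    w * y ^ i * (w * y ^ i) = 1 := by
  have hwinv : w⁻¹ = w := inv_eq_of_mul_eq_one_right ww
  have h2 : (w * y * w⁻¹) ^ i = w * y ^ i * w⁻¹ := conj_pow
  rw [wy, inv_pow, hwinv] at h2
  rw [← mul_assoc, ← h2, inv_mul_cancel]

end H66.Eleven
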