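import Cfsg.Agent.H66.Eleven.Swap
import Cfsg.Agent.H66.Eleven.OddU

/-!
The two-point stabiliser of S3403, case A, when `u` and `v` are odd.
-/

set_option autoImplicit false
set_option linter.unusedSectionVars false

open MulAction H63.Eleven

namespace H66.Eleven

universe u v

section General

variable {G : Type*} [Group G] {y w t : G}

theorem w_pow_fin (hy : y ^ 5 = 1) (ww : w * w = 1) (wy : w * y * w⁻¹ = y⁻¹) (i : Fin 5) :
    w * y ^ (i : ℕ) = y ^ ((-i : Fin 5) : ℕ) * w := by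
  have h2 : (w * y * w⁻¹) ^ (i : ℕ) = w * y ^ (i : ℕ) * w⁻¹ := conj_pow
  rw [wy, inv_pow] at h2
  rw [pow_fin_neg hy, h2, inv_mul_cancel_right]

theorem pow_five_eq_self (ht : t * t = 1) : t ^ 5 = t := by
  simp only [pow_succ, pow_zero, one_mul, ht]

end General

variable {G : Type u} {Ω : Type v} [Group G] [Finite G] [MulAction G Ω] (A : ACore G Ω)

/-- The elements of a two-point stabiliser given by `exists_y`. -/
structure Frame (a b : Ω) where
  hab : a ≠ b
  y : G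
  hy : orderOf y = 5
  ya : y • a = a
  yb : y • b = b
  fix : ∀ c, y • c = c → c = a ∨ c = b
  yV : ∀ x : G, x ∈ A.W a → x • b = b → x * y = y * x
  yx : ∀ x : G, x ∈ A.W a → x • b = b → ∀ c, (y * x) • c = c → c = a ∨ c = b
  yT : ∀ t : G, t * t = 1 → t • a = a → t • b = b → t * y = y * t
  w : G
  ww : w * w = 1
  wa : w • a = b
  wb : w • b = a
  wy : w * y * w⁻¹ = y⁻¹
  wfpf : ∀ c ∈ A.line a b, w • c ≠ c
  wV : ∀ x : G, x ∈ A.W a → x • b = b → x * w = w * x
  wclass : ∀ g : G, g * g = 1 → g • a = b → g • b = a → (∀ c ∈ A.line a b, g • c ≠ c) →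
    ∃ (i : ℕ) (x : G), x ∈ A.W a ∧ x • b = b ∧ g = w * y ^ i * x
  wT : ∀ t : G, t * t = 1 → t • a = a → t • b = b → t ∉ A.W a → t * w = w * t

theorem frame_exists {a b : Ω} (hab : a ≠ b) : Nonempty (Frame A a b) := by
  obtain ⟨y, hy, ya, yb, fix, yV, yx, yT, w, ww, wa, wb, wy, wfpf, wV, wclass, wT⟩ :=
    A.exists_y a b hab
  exact ⟨⟨hab, y, hy, ya, yb, fix, yV, yx, yT, w, ww, wa, wb, wy, wfpf, wV, wclass, wT⟩⟩

theorem smul_mem_line {g : G} {a b c : Ω} (hab : a ≠ b)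
    (hg : g • a = a ∧ g • b = b ∨ g • a = b ∧ g • b = a) (hc : c ∈ A.line a b) :
    g • c ∈ A.line a b := by
  have h := A.line_smul g a b hab
  rcases hg with ⟨h1, h2⟩ | ⟨h1, h2⟩
  · rw [h1, h2] at h
    rw [h]
    exact ⟨c, hc, rfl⟩
  · rw [h1, h2, A.line_eq a b b a hab (A.line_right a b hab) (A.line_left a b hab) hab.symm] at h
    rw [h]
    exact ⟨c, hc, rfl⟩

theorem not_mem_W_of_inv (hv : Odd A.v) (hu : Odd A.u) {t : G} (ht : t * t = 1) (ht1 : t ≠ 1)
    (c : Ω) : t ∉ A.W c := by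
  intro h
  have h1 : orderOf t ∣ Nat.card (A.W c) := Subgroup.orderOf_dvd_natCard _ h
  rw [orderOf_two_iff.2 ⟨ht, ht1⟩, A.card_W, ← even_iff_two_dvd] at h1
  exact Nat.not_even_iff_odd.2 (((show Odd 11 by decide).mul hu).mul hv) h1

/-- An involution fixing a point fixes a second one. -/
theorem exists_second_fix (hu : Odd A.u) {t : G} {c : Ω} (ht : t * t = 1) (hc : t • c = c) :
    ∃ d, d ≠ c ∧ t • d = d := by
  haveI := finiteΩ A
  haveI : Fact (Nat.Prime 2) := ⟨Nat.prime_two⟩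
  have h := ncard_modEq_fix (p := 2) (g := t) (by rw [pow_two, ht]) (Set.univ : Set Ω)
    (fun c _ => Set.mem_univ _)
  rw [Set.ncard_univ, A.card_points] at h
  have hpos : 0 < {d : Ω | d ∈ Set.univ ∧ t • d = d}.ncard :=
    (Set.ncard_pos).2 ⟨c, trivial, hc⟩
  have h1 : 1 < {d : Ω | d ∈ Set.univ ∧ t • d = d}.ncard := by
    obtain ⟨r, hr⟩ := hu
    unfold Nat.ModEq at h
    omega
  obtain ⟨d, hd, hdc⟩ := Set.exists_ne_of_one_lt_ncard h1 c
  exact ⟨d, hdc, hd.2⟩

namespace Frame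

variable {A} {a b : Ω} (F : Frame A a b)

theorem y5 : F.y ^ 5 = 1 := by
  have h := pow_orderOf_eq_one F.y
  rwa [F.hy] at h

theorem y_ne_one : F.y ≠ 1 := fun h => by
  have h1 := F.hy
  rw [h, orderOf_one] at h1
  norm_num at h1

theorem ypow_a (i : ℕ) : F.y ^ i • a = a := Subgroup.pow_mem (MulAction.stabilizer G a) F.ya i

theorem ypow_b (i : ℕ) : F.y ^ i • b = b := Subgroup.pow_mem (MulAction.stabilizer G b) F.yb i

include F in
theorem fix_of_pow {i : Fin 5} (hi : i ≠ 0) {c : Ω} (hc : F.y ^ (i : ℕ) • c = c) :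
    c = a ∨ c = b :=
  F.fix c (mem_of_pow_fin_mem (MulAction.stabilizer G c) F.hy hi hc)

/-- An involution outside `W a` is no `y ^ i * x`. -/
theorem ne_ypow_mul {t x : G} (ht : t * t = 1) (htW : t ∉ A.W a) (hx : x ∈ A.W a)
    (hxb : x • b = b) (i : ℕ) : t ≠ F.y ^ i * x := by
  intro h
  apply htW
  have hc : Commute (F.y ^ i) x := (Commute.pow_right (F.yV x hx hxb) i).symm
  rw [← pow_five_eq_self ht, h, hc.mul_pow, ← pow_mul, mul_comm i 5, pow_mul, F.y5, one_pow,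
    one_mul]
  exact pow_mem hx 5

include F in
/-- An involution of the two-point stabiliser fixes only those two points of their line. -/
theorem inv_fix_line {t : G} (ht : t * t = 1) (htW : t ∉ A.W a) (hta : t • a = a) (htb : t • b = b)
    {c : Ω} (hc : c ∈ A.line a b) (htc : t • c = c) : c = a ∨ c = b := by
  haveI := finiteΩ A
  by_contra hne
  push Not at hne
  have hty : Commute t F.y := F.yT t ht hta htb
  have htw : Commute t F.w := F.wT t ht hta htb htW
  have hy5 := F.y5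
  let S : Set Ω := A.line a b \ {a, b}
  let φ : Fin 5 ⊕ Fin 5 → Ω :=
    Sum.elim (fun i => F.y ^ (i : ℕ) • c) (fun i => F.w • F.y ^ (i : ℕ) • c)
  have hyc : ∀ i : ℕ, F.y ^ i • c ∈ A.line a b := fun i =>
    smul_mem_line A F.hab (Or.inl ⟨F.ypow_a i, F.ypow_b i⟩) hc
  have hyne : ∀ i : ℕ, F.y ^ i • c ≠ a ∧ F.y ^ i • c ≠ b := fun i =>
    ⟨fun h => hne.1 (MulAction.injective (F.y ^ i) (h.trans (F.ypow_a i).symm)),
      fun h => hne.2 (MulAction.injective (F.y ^ i) (h.trans (F.ypow_b i).symm))⟩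
  have hinj1 : ∀ i j : Fin 5, F.y ^ (i : ℕ) • c = F.y ^ (j : ℕ) • c → i = j := by
    intro i j h
    by_contra hij
    have h1 : F.y ^ ((-j + i : Fin 5) : ℕ) • c = c := by
      rw [pow_fin_add hy5, pow_fin_neg hy5, mul_smul, h, inv_smul_smul]
    rcases F.fix_of_pow (fun h0 => hij (neg_add_eq_zero.1 h0).symm) h1 with h2 | h2
    · exact hne.1 h2
    · exact hne.2 h2
  have hcross : ∀ i j : Fin 5, F.y ^ (i : ℕ) • c ≠ F.w • F.y ^ (j : ℕ) • c := by
    intro i j h
    obtain ⟨k, hk⟩ : ∃ k : Fin 5, j + -k + i = k :=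
      ⟨3 * (i + j), (by decide +revert : ∀ i j : Fin 5, j + -(3 * (i + j)) + i = 3 * (i + j)) i j⟩
    refine F.wfpf _ (hyc (k : ℕ)) ?_
    calc F.w • F.y ^ (k : ℕ) • c
        = F.w • F.y ^ ((k + -j : Fin 5) : ℕ) • F.y ^ (j : ℕ) • c := by
          congr 1
          rw [← mul_smul, ← pow_fin_add hy5, neg_add_cancel_right]
      _ = F.y ^ ((j + -k : Fin 5) : ℕ) • F.w • F.y ^ (j : ℕ) • c := by
          rw [← mul_smul, w_pow_fin hy5 F.ww F.wy, mul_smul, neg_add, neg_neg, add_comm (-k)]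
      _ = F.y ^ (k : ℕ) • c := by
          rw [← h, ← mul_smul, ← pow_fin_add hy5, hk]
  have hφ : Function.Injective φ := by
    rintro (i | i) (j | j) h
    · exact congrArg Sum.inl (hinj1 i j h)
    · exact absurd h (hcross i j)
    · exact absurd h.symm (hcross j i)
    · exact congrArg Sum.inr (hinj1 i j (MulAction.injective F.w h))
  have hmem : Set.range φ ⊆ S := by
    rintro _ ⟨i | i, rfl⟩
    · refine ⟨hyc _, ?_⟩
      rintro (h | h)
      · exact (hyne _).1 h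
      · exact (hyne _).2 h
    · refine ⟨smul_mem_line A F.hab (Or.inr ⟨F.wa, F.wb⟩) (hyc _), ?_⟩
      rintro (h | h)
      · exact (hyne (i : ℕ)).2 (MulAction.injective F.w (h.trans F.wb.symm))
      · exact (hyne (i : ℕ)).1 (MulAction.injective F.w (h.trans F.wa.symm))
  have heq : Set.range φ = S := by
    refine Set.eq_of_subset_of_ncard_le hmem ?_
    rw [Set.ncard_range_of_injective hφ, Nat.card_sum, Nat.card_fin,
      Set.ncard_sdiff (Set.insert_subset (A.line_left a b F.hab)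
        (Set.singleton_subset_iff.2 (A.line_right a b F.hab))),
      Set.ncard_pair F.hab, ← Nat.card_coe_set_eq, A.line_card a b F.hab]
  have hall : ∀ d ∈ A.line a b, t • d = d := by
    intro d hd
    by_cases hda : d = a ∨ d = b
    · rcases hda with rfl | rfl
      · exact hta
      · exact htb
    · have hdS : d ∈ S := ⟨hd, hda⟩
      rw [← heq] at hdS
      obtain ⟨i | i, rfl⟩ := hdS
      · show t • F.y ^ (i : ℕ) • c = F.y ^ (i : ℕ) • c
        rw [← mul_smul, (hty.pow_right (i : ℕ)).eq, mul_smul, htc]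
      · show t • F.w • F.y ^ (i : ℕ) • c = F.w • F.y ^ (i : ℕ) • c
        rw [← mul_smul, htw.eq, mul_smul, ← mul_smul t, (hty.pow_right (i : ℕ)).eq, mul_smul, htc]
  obtain ⟨i, x, hx, hxb, hwt⟩ := F.wclass (F.w * t)
    (by rw [mul_assoc, ← mul_assoc t, htw.eq, mul_assoc F.w t t, ht, mul_one, F.ww])
    (by rw [mul_smul, hta, F.wa]) (by rw [mul_smul, htb, F.wb])
    (fun d hd => by rw [mul_smul, hall d hd]; exact F.wfpf d hd)
  rw [mul_assoc] at hwt
  exact F.ne_ypow_mul ht htW hx hxb i (mul_left_cancel hwt)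

/-- The elements of a two-point stabiliser containing an involution. -/
theorem decomp (hv : Odd A.v) {t : G} (ht : t * t = 1) (ht1 : t ≠ 1) (htW : t ∉ A.W a)
    (hta : t • a = a) (htb : t • b = b) {m : G} (hm : m ∈ M2 G a b) :
    ∃ i : Fin 5, ∃ x, x ∈ A.W a ∧ x • b = b ∧
      (m = F.y ^ (i : ℕ) * x ∨ m = F.y ^ (i : ℕ) * x * t) := by
  let V : Subgroup G := A.W a ⊓ MulAction.stabilizer G b
  have hV : V ≤ M2 G a b := fun x hx => ⟨A.W_le a hx.1, hx.2⟩
  have hyM : F.y ∈ M2 G a b := ⟨F.ya, F.yb⟩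
  have htM : t ∈ M2 G a b := ⟨hta, htb⟩
  have hM : Nat.card (M2 G a b) = 10 * A.v := by
    refine (card_M_cases A F.hab).resolve_left fun h => ?_
    have h1 : orderOf t ∣ 5 * A.v := h ▸ Subgroup.orderOf_dvd_natCard _ htM
    rw [orderOf_two_iff.2 ⟨ht, ht1⟩, ← even_iff_two_dvd] at h1
    exact Nat.not_even_iff_odd.2 ((show Odd 5 by decide).mul hv) h1
  let f : (Fin 5 × V) ⊕ (Fin 5 × V) → M2 G a b := Sum.elim
    (fun p => ⟨F.y ^ (p.1 : ℕ) * p.2, mul_mem (pow_mem hyM _) (hV p.2.2)⟩)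
    (fun p => ⟨F.y ^ (p.1 : ℕ) * p.2 * t, mul_mem (mul_mem (pow_mem hyM _) (hV p.2.2)) htM⟩)
  have hcross : ∀ (i j : Fin 5) (x x' : V),
      F.y ^ (i : ℕ) * (x : G) ≠ F.y ^ (j : ℕ) * (x' : G) * t := by
    intro i j x x' h
    have hc : Commute (x' : G)⁻¹ (F.y ^ ((-j + i : Fin 5) : ℕ)) :=
      (Commute.pow_right (F.yV _ x'.2.1 x'.2.2) _).inv_left
    refine F.ne_ypow_mul ht htW (x := (x' : G)⁻¹ * (x : G)) (mul_mem (inv_mem x'.2.1) x.2.1) ?_
      ((-j + i : Fin 5) : ℕ) ?_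
    · exact Subgroup.mul_mem _ (Subgroup.inv_mem _ x'.2.2) x.2.2
    · rw [← mul_assoc, ← hc.eq, pow_fin_add F.y5, pow_fin_neg F.y5]
      simp only [mul_assoc]
      rw [h]
      simp [mul_assoc]
  have hinj : Function.Injective f := by
    rintro (⟨i, x⟩ | ⟨i, x⟩) (⟨j, x'⟩ | ⟨j, x'⟩) h
    · obtain ⟨rfl, hxx⟩ := ypow_mul_inj A F.hab F.hy F.yb F.fix x.2.1 x'.2.1
        (congrArg Subtype.val h)
      exact congrArg Sum.inl (Prod.ext rfl (Subtype.ext hxx))
    · exact absurd (congrArg Subtype.val h) (hcross i j x x')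
    · exact absurd (congrArg Subtype.val h).symm (hcross j i x' x)
    · obtain ⟨rfl, hxx⟩ := ypow_mul_inj A F.hab F.hy F.yb F.fix x.2.1 x'.2.1
        (mul_right_cancel (congrArg Subtype.val h))
      exact congrArg Sum.inr (Prod.ext rfl (Subtype.ext hxx))
  have hbij : Function.Bijective f := hinj.bijective_of_nat_card_le (by
    rw [hM, Nat.card_sum, Nat.card_prod, Nat.card_fin, A.card_V a b F.hab]; omega)
  obtain ⟨p, hp⟩ := hbij.2 ⟨m, hm⟩
  rcases p with ⟨i, x⟩ | ⟨i, x⟩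
  · exact ⟨i, x, x.2.1, x.2.2, Or.inl (congrArg Subtype.val hp).symm⟩
  · exact ⟨i, x, x.2.1, x.2.2, Or.inr (congrArg Subtype.val hp).symm⟩

end Frame

/-- The involutions of a two-point stabiliser are conjugate in it. -/
theorem conj_in_M (hv : Odd A.v) {a b : Ω} (hab : a ≠ b) {s t : G} (hs : s * s = 1) (hs1 : s ≠ 1)
    (ht : t * t = 1) (ht1 : t ≠ 1) (hsa : s • a = a) (hsb : s • b = b) (hta : t • a = a)
    (htb : t • b = b) : ∃ m ∈ M2 G a b, m * s * m⁻¹ = t := by
  haveI : Fact (Nat.Prime 2) := ⟨Nat.prime_two⟩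
  let M := M2 G a b
  let s' : M := ⟨s, hsa, hsb⟩
  let t' : M := ⟨t, hta, htb⟩
  have hs' : orderOf s' = 2 := (Subgroup.orderOf_coe s').symm.trans (orderOf_two_iff.2 ⟨hs, hs1⟩)
  have ht' : orderOf t' = 2 := (Subgroup.orderOf_coe t').symm.trans (orderOf_two_iff.2 ⟨ht, ht1⟩)
  have hfac : (Nat.card M).factorization 2 = 1 := by
    rcases card_M_cases A hab with h | h
    · exfalso
      have h1 : 2 ∣ 5 * A.v := by rw [← h, ← hs']; exact orderOf_dvd_natCard s'
      rw [← even_iff_two_dvd] at h1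
      exact Nat.not_even_iff_odd.2 ((show Odd 5 by decide).mul hv) h1
    · have hodd : ¬ 2 ∣ 5 * A.v := by
        rw [← even_iff_two_dvd]
        exact Nat.not_even_iff_odd.2 ((show Odd 5 by decide).mul hv)
      rw [show Nat.card M = 2 * (5 * A.v) from h.trans (by ring),
        Nat.factorization_mul (by norm_num) (by have := v_pos A; omega), Finsupp.add_apply,
        Nat.Prime.factorization_self Nat.prime_two, Nat.factorization_eq_zero_of_not_dvd hodd]
  let P : Sylow 2 M := Sylow.ofCard (Subgroup.zpowers s')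
    (by rw [Nat.card_zpowers, hs', hfac, pow_one])
  let Q : Sylow 2 M := Sylow.ofCard (Subgroup.zpowers t')
    (by rw [Nat.card_zpowers, ht', hfac, pow_one])
  obtain ⟨m, hm⟩ := MulAction.exists_smul_eq M P Q
  refine ⟨m, m.2, ?_⟩
  have h1 : m * s' * m⁻¹ ∈ (Q : Subgroup M) := by
    rw [← hm, Sylow.coe_subgroup_smul]
    have h := Subgroup.smul_mem_pointwise_smul s' (MulAut.conj m) (P : Subgroup M)
      (Subgroup.mem_zpowers s')
    simpa using h
  obtain ⟨k, hk⟩ := (mem_powers_iff_mem_zpowers).2 h1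
  have hk' : t ^ k = (m : G) * s * (m : G)⁻¹ := congrArg Subtype.val hk
  rw [← pow_mod_orderOf, orderOf_two_iff.2 ⟨ht, ht1⟩] at hk'
  rcases Nat.mod_two_eq_zero_or_one k with h | h
  · rw [h, pow_zero, eq_comm, mul_inv_eq_one, mul_eq_left] at hk'
    exact absurd hk' hs1
  · rw [h, pow_one] at hk'
    exact hk'.symm

/-- All involutions fixing a point are conjugate. -/
theorem conj_of_fix (hv : Odd A.v) (hu : Odd A.u) {s t : G} {c e : Ω} (hs : s * s = 1)
    (hs1 : s ≠ 1) (hc : s • c = c) (ht : t * t = 1) (ht1 : t ≠ 1) (he : t • e = e) :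
    ∃ g : G, g * s * g⁻¹ = t := by
  obtain ⟨d, hdc, hd⟩ := exists_second_fix A hu hs hc
  obtain ⟨f, hfe, hf⟩ := exists_second_fix A hu ht he
  obtain ⟨g, hgc, hgd⟩ := A.twoTrans c d e f hdc.symm hfe.symm
  have h1 : g * s * g⁻¹ * (g * s * g⁻¹) = 1 := by
    rw [show g * s * g⁻¹ * (g * s * g⁻¹) = g * (s * s) * g⁻¹ by group, hs, mul_one, mul_inv_cancel]
  have h2 : g * s * g⁻¹ ≠ 1 := fun h => hs1 (by rw [mul_inv_eq_one, mul_eq_left] at h; exact h)
  obtain ⟨m, -, hm⟩ := conj_in_M A hv hfe.symm h1 h2 ht ht1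
    (by rw [← hgc, mul_smul, inv_smul_smul, mul_smul, hc])
    (by rw [← hgd, mul_smul, inv_smul_smul, mul_smul, hd]) he hf
  exact ⟨m * g, by rw [← hm]; group⟩

end H66.Eleven
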