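import Mathlib

/-!
The transfer of an element of prime order all whose conjugates in the subgroup have the same image.
-/

set_option autoImplicit false
set_option linter.unusedSectionVars false

namespace H66.Eleven

open MulAction

theorem transfer_eq_pow_of_const {G : Type*} [Group G] [Finite G] (W : Subgroup G) {A : Type*}
    [CommGroup A] (φ : W →* A) {p : ℕ} (hp : p.Prime) (x : G) (hx : x ^ p = 1) (c : A)
    (hconst : ∀ g : G, ∀ hg : g⁻¹ * x * g ∈ W, φ ⟨_, hg⟩ = c) :
    ∃ N : ℕ, MonoidHom.transfer φ x = c ^ N ∧ W.index ≡ N [MOD p] := by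
  classical
  haveI : Fintype (Quotient (orbitRel (Subgroup.zpowers x) (G ⧸ W))) := Fintype.ofFinite _
  let Q := Quotient (orbitRel (Subgroup.zpowers x) (G ⧸ W))
  let per : Q → ℕ := fun q => Function.minimalPeriod (x • ·) q.out
  have hper : ∀ q : Q, per q = 1 ∨ per q = p := by
    intro q
    apply hp.eq_one_or_self_of_dvd
    apply Function.IsPeriodicPt.minimalPeriod_dvd
    show (fun r => x • r)^[p] q.out = q.out
    rw [smul_iterate]
    simp [hx]
  refine ⟨(Finset.univ.filter fun q : Q => per q = 1).card, ?_, ?_⟩
  · rw [MonoidHom.transfer_eq_prod_quotient_orbitRel_zpowers_quot]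
    rw [← Finset.prod_filter_mul_prod_filter_not Finset.univ (fun q : Q => per q = 1)]
    rw [Finset.prod_eq_pow_card (b := c), Finset.prod_eq_one, mul_one]
    · intro q hq
      have h : per q = p := (hper q).resolve_left (Finset.mem_filter.1 hq).2
      refine (congrArg φ (Subtype.ext (?_ : _ = (1 : G)))).trans (map_one φ)
      show (Quotient.out q.out)⁻¹ * x ^ per q * Quotient.out q.out = 1
      rw [h, hx, mul_one, inv_mul_cancel]
    · intro q hq
      have h : per q = 1 := (Finset.mem_filter.1 hq).2
      have hmem := QuotientGroup.out_conj_pow_minimalPeriod_mem W x q.out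
      have he : (Quotient.out q.out)⁻¹ * x ^ per q * Quotient.out q.out =
          (Quotient.out q.out)⁻¹ * x * Quotient.out q.out := by rw [h, pow_one]
      exact (congrArg φ (Subtype.ext he)).trans (hconst _ (he ▸ hmem))
  · have hsum : W.index = ∑ q : Q, per q := by
      rw [Subgroup.index_eq_card, Nat.card_congr (selfEquivSigmaOrbits (Subgroup.zpowers x) (G ⧸ W)),
        Nat.card_sigma]
      refine Finset.sum_congr rfl fun q _ => ?_
      exact (Nat.card_congr (orbitZPowersEquiv x q.out)).trans (Nat.card_zmod _)
    rw [hsum, ← Finset.sum_filter_add_sum_filter_not Finset.univ (fun q : Q => per q = 1),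
      Finset.sum_congr rfl (g := fun _ => 1) (fun q hq => (Finset.mem_filter.1 hq).2),
      Finset.sum_congr rfl (g := fun _ => p)
        (fun q hq => (hper q).resolve_left (Finset.mem_filter.1 hq).2),
      Finset.sum_const, Finset.sum_const, smul_eq_mul, smul_eq_mul, mul_one]
    unfold Nat.ModEq
    rw [Nat.add_mul_mod_self_right]

end H66.Eleven
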