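import Cfsg.Agent.H63.Eleven.Focal
import Cfsg.Agent.H66.Eleven.Frame
import Cfsg.Agent.H66.Eleven.TransferFix

/-!
An element of order eleven of a two-point centraliser commuting with all of the complement: transfer.
-/

set_option autoImplicit false
set_option linter.unusedSectionVars false

open MulAction H63.Eleven

namespace H66.Eleven

universe u v

variable {G : Type u} {Ω : Type v} [Group G] [Finite G] [MulAction G Ω] (A : ACore G Ω)

theorem P_comm {a : Ω} {g p : G} (hg : g ∈ A.W a) (hp : p ∈ A.P a) : g * p = p * g :=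
  (A.W_iff a g).1 hg p hp

theorem P_conj_fix {a : Ω} {g p : G} (hg : g • a = a) (hp : p ∈ A.P a) :
    g * p * g⁻¹ ∈ A.P a := by
  have h : g * p * g⁻¹ ∈ cj g (A.P a) := mem_cj.2 (by
    rw [show g⁻¹ * (g * p * g⁻¹) * g = p by group]; exact hp)
  rwa [← A.P_conj g a, hg] at h

/-- The element of order eleven and its line. -/
structure Elev (a b : Ω) where
  hab : a ≠ b
  x : G
  hxW : x ∈ A.W a
  hxb : x • b = b
  hx : orderOf x = 11
  self : ∀ g : G, g ∈ A.W a → g • b = b → g * x * g⁻¹ ∈ Subgroup.zpowers x →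
    g ∈ Subgroup.zpowers x

theorem zmod_eleven : (11 : ZMod 11) = 0 := by decide

theorem zmod_neg_ten : (-10 : ZMod 11) = 1 := by decide

namespace Elev

variable {A} {a b : Ω} (E : Elev A a b)

theorem x_ne : E.x ≠ 1 := fun h => by
  have h1 := E.hx
  rw [h, orderOf_one] at h1
  norm_num at h1

theorem x11 : E.x ^ 11 = 1 := by
  have h := pow_orderOf_eq_one E.x
  rwa [E.hx] at h

theorem norm_mem {h : G} (hh : h ∈ A.W a) (hn : h * E.x * h⁻¹ ∈ Subgroup.zpowers E.x) :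
    ∃ p ∈ A.P a, h * p ∈ Subgroup.zpowers E.x := by
  have he : h * E.x * h⁻¹ ≠ 1 := fun e => E.x_ne (by rwa [mul_inv_eq_one, mul_eq_left] at e)
  have hV : Subgroup.zpowers E.x ≤ A.W a ⊓ MulAction.stabilizer G b :=
    Subgroup.zpowers_le.2 ⟨E.hxW, E.hxb⟩
  have hfix : (h * E.x * h⁻¹) • (h • b) = h • b := by
    rw [mul_smul, inv_smul_smul, mul_smul, E.hxb]
  have hbL := (A.V_fix a b _ E.hab (hV hn).1 (hV hn).2 he (h • b)).1 hfix
  obtain ⟨p, hp, hpb⟩ := A.line_stab a b h E.hab hh hbL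
  refine ⟨p, hp, E.self _ (mul_mem hh (A.P_le a hp)) hpb ?_⟩
  have hc : p * E.x = E.x * p := (P_comm A E.hxW hp).symm
  rw [show h * p * E.x * (h * p)⁻¹ = h * (p * E.x * p⁻¹) * h⁻¹ by group, hc, mul_inv_cancel_right]
  exact hn

theorem norm_comm {h : G} (hh : h ∈ A.W a) (hn : h * E.x * h⁻¹ ∈ Subgroup.zpowers E.x) :
    h * E.x = E.x * h := by
  obtain ⟨p, hp, hmem⟩ := E.norm_mem hh hn
  obtain ⟨i, hi⟩ := (mem_powers_iff_mem_zpowers).2 hmem
  have hi' : E.x ^ i = h * p := hi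
  have h1 : Commute (h * p) E.x := hi' ▸ (Commute.refl E.x).pow_left i
  have h2 : Commute p E.x := (P_comm A E.hxW hp).symm
  have h3 := h1.mul_left h2.inv_left
  rwa [mul_inv_cancel_right] at h3

end Elev

/-- The transfer argument. -/
theorem false_of_commuting (hv : Odd A.v) (hu : Odd A.u) (h11u : 11 ∣ A.u) (h11v : 11 ∣ A.v)
    {a b : Ω} (E : Elev A a b) (F : Frame A a b)
    (ht : ∀ s : G, s * s = 1 → s ≠ 1 → s • a = a → s • b = b →
      ∃ t : G, t * t = 1 ∧ t ≠ 1 ∧ t • a = a ∧ t • b = b ∧ t * E.x = E.x * t) :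
    False := by
  classical
  haveI := finiteΩ A
  haveI : Fact (Nat.Prime 11) := ⟨by norm_num⟩
  have hab := E.hab
  let x := E.x
  have hyx : Commute F.y x := (Commute.symm (F.yV x E.hxW E.hxb))
  let W := A.W a
  let P' : Subgroup W := (A.P a).subgroupOf W
  haveI hP'n : P'.Normal := by
    refine ⟨fun p hp g => ?_⟩
    show (g : G) * p * (g : G)⁻¹ ∈ A.P a
    rw [show (g : G) * (p : G) = (p : G) * g from P_comm A g.2 hp, mul_inv_cancel_right]
    exact hp
  let mk : W →* W ⧸ P' := QuotientGroup.mk' P'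
  have hmk1 : ∀ z : W, mk z = 1 ↔ (z : G) ∈ A.P a := fun z => QuotientGroup.eq_one_iff z
  let xW : W := ⟨x, E.hxW⟩
  let xb : W ⧸ P' := mk xW
  have hxP : x ∉ A.P a := fun h => hab (A.P_fix a b x h E.x_ne E.hxb).symm
  have hxb11 : xb ^ 11 = 1 := by
    rw [← map_pow, show xW ^ 11 = 1 from Subtype.ext E.x11, map_one]
  have hxbord : orderOf xb = 11 := orderOf_eq_prime hxb11 fun h => hxP ((hmk1 xW).1 h)
  -- card
  have hcardW : Nat.card (W ⧸ P') = A.u * A.v := by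
    have h := Subgroup.card_eq_card_quotient_mul_card_subgroup P'
    rw [Nat.card_congr (Subgroup.subgroupOfEquivOfLe (A.P_le a)).toEquiv, A.card_P,
      show Nat.card W = 11 * A.u * A.v from A.card_W a] at h
    refine Nat.eq_of_mul_eq_mul_right (by norm_num : 0 < 11) ?_
    rw [← h]
    ring
  -- conjugation by `y`
  have hyW : ∀ g : G, g ∈ W → F.y * g * F.y⁻¹ ∈ W := fun g hg => W_conj_fix A F.ya hg
  have hyW' : ∀ g : G, g ∈ W → F.y⁻¹ * g * F.y ∈ W := fun g hg => by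
    have h := W_conj_fix A (g := F.y⁻¹) (inv_smul_eq_iff.2 F.ya.symm) hg
    rwa [inv_inv] at h
  let cy : W ≃* W :=
    { toFun := fun g => ⟨F.y * g * F.y⁻¹, hyW g g.2⟩
      invFun := fun g => ⟨F.y⁻¹ * g * F.y, hyW' g g.2⟩
      left_inv := fun g => Subtype.ext (by show F.y⁻¹ * (F.y * g * F.y⁻¹) * F.y = g; group)
      right_inv := fun g => Subtype.ext (by show F.y * (F.y⁻¹ * g * F.y) * F.y⁻¹ = g; group)
      map_mul' := fun g h => Subtype.ext (by
        show F.y * (g * h) * F.y⁻¹ = F.y * g * F.y⁻¹ * (F.y * h * F.y⁻¹)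
        group) }
  let α : MulAut (W ⧸ P') := QuotientGroup.congr P' P' cy (by
    ext g
    constructor
    · rintro ⟨p, hp, rfl⟩
      exact P_conj_fix A F.ya hp
    · intro hg
      refine ⟨cy.symm g, ?_, cy.apply_symm_apply g⟩
      show F.y⁻¹ * (g : G) * F.y ∈ A.P a
      have h := P_conj_fix A (g := F.y⁻¹) (inv_smul_eq_iff.2 F.ya.symm) hg
      rwa [inv_inv] at h)
  have hα : ∀ g : W, α (mk g) = mk ⟨F.y * g * F.y⁻¹, hyW g g.2⟩ := fun g => rfl
  have hα5 : ∀ q, α (α (α (α (α q)))) = q := by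
    intro q
    obtain ⟨g, rfl⟩ := QuotientGroup.mk'_surjective P' q
    simp only [show (QuotientGroup.mk' P') = mk from rfl, hα]
    congr 1
    refine Subtype.ext ?_
    show F.y * (F.y * (F.y * (F.y * (F.y * g * F.y⁻¹) * F.y⁻¹) * F.y⁻¹) * F.y⁻¹) * F.y⁻¹ = g
    rw [show F.y * (F.y * (F.y * (F.y * (F.y * g * F.y⁻¹) * F.y⁻¹) * F.y⁻¹) * F.y⁻¹) * F.y⁻¹
      = F.y ^ 5 * g * (F.y ^ 5)⁻¹ by simp only [pow_succ, pow_zero, one_mul]; group]
    rw [F.y5]; simp
  have hαx : α xb = xb := by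
    rw [hα]
    congr 1
    refine Subtype.ext ?_
    show F.y * x * F.y⁻¹ = x
    rw [hyx.eq, mul_inv_cancel_right]
  -- elements moving `x` inside `x P`
  have hlift : ∀ (g : W) (n : ℕ), mk g * xb * (mk g)⁻¹ = xb ^ n →
      ∃ p ∈ A.P a, (g : G) * x * (g : G)⁻¹ = x ^ n * p := by
    intro g n h
    have h1 : mk ((xW ^ n)⁻¹ * (g * xW * g⁻¹)) = 1 := by
      rw [map_mul, map_mul, map_mul, map_inv, map_inv, map_pow]
      show (xb ^ n)⁻¹ * (mk g * xb * (mk g)⁻¹) = 1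
      rw [h, inv_mul_cancel]
    refine ⟨_, (hmk1 _).1 h1, ?_⟩
    show (g : G) * x * (g : G)⁻¹ = x ^ n * ((x ^ n)⁻¹ * ((g : G) * x * (g : G)⁻¹))
    rw [mul_inv_cancel_left]
  have hker : ∀ g : W, (g : G) * x * (g : G)⁻¹ = x → mk g ∈ Subgroup.zpowers xb := by
    intro g hg
    obtain ⟨p, hp, hmem⟩ := E.norm_mem g.2 (by rw [hg]; exact Subgroup.mem_zpowers x)
    obtain ⟨i, hi⟩ := (mem_powers_iff_mem_zpowers).2 hmem
    have hgW : g * ⟨p, A.P_le a hp⟩ = xW ^ i := Subtype.ext hi.symm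
    have h1 : mk g = xb ^ i := by
      have h2 := congrArg mk hgW
      rwa [map_mul, (hmk1 ⟨p, A.P_le a hp⟩).2 hp, mul_one, map_pow] at h2
    rw [h1]
    exact Subgroup.pow_mem _ (Subgroup.mem_zpowers xb) _
  obtain ⟨gb, hgbc, hgbn⟩ : ∃ gb : W ⧸ P', Commute gb xb ∧ gb ∉ Subgroup.zpowers xb := by
    by_contra hall
    push Not at hall
    obtain ⟨S, hS⟩ := (IsPGroup.of_card (n := 1) (by rw [Nat.card_zpowers, hxbord, pow_one]) :
      IsPGroup 11 (Subgroup.zpowers xb)).exists_le_sylow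
    have hS121 : 11 ^ 2 ∣ Nat.card S := S.pow_dvd_card_of_pow_dvd_card (by
      rw [hcardW, pow_two]; exact Nat.mul_dvd_mul h11u h11v)
    haveI : Nontrivial (S : Subgroup (W ⧸ P')) := by
      rw [← Finite.one_lt_card_iff_nontrivial]
      exact lt_of_lt_of_le (by norm_num) (Nat.le_of_dvd Nat.card_pos hS121)
    haveI := S.2.center_nontrivial
    obtain ⟨c, hc⟩ := exists_ne (1 : Subgroup.center (S : Subgroup (W ⧸ P')))
    have hxS : xb ∈ (S : Subgroup (W ⧸ P')) := hS (Subgroup.mem_zpowers xb)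
    have hcc : ∀ s ∈ (S : Subgroup (W ⧸ P')), Commute s ((c : (S : Subgroup (W ⧸ P'))) : W ⧸ P') :=
      fun s hs => congrArg Subtype.val (Subgroup.mem_center_iff.1 c.2 ⟨s, hs⟩)
    have hcmem := hall _ (hcc xb hxS).symm
    obtain ⟨cb, hcb⟩ : ∃ cb, cb = ((c : (S : Subgroup (W ⧸ P'))) : W ⧸ P') := ⟨_, rfl⟩
    rw [← hcb] at hcmem
    have hcb1 : cb ≠ 1 := fun h => hc (Subtype.ext (Subtype.ext (hcb.symm.trans h)))
    have heq : Subgroup.zpowers cb = Subgroup.zpowers xb := by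
      refine Subgroup.eq_of_le_of_card_ge (Subgroup.zpowers_le.2 hcmem) ?_
      have h1 : orderOf cb ∣ 11 := by
        rw [← hxbord, ← Nat.card_zpowers xb]
        exact Subgroup.orderOf_dvd_natCard _ hcmem
      rw [Nat.card_zpowers, Nat.card_zpowers, hxbord]
      rcases (Nat.dvd_prime (by norm_num)).1 h1 with h | h
      · exact absurd (orderOf_eq_one_iff.1 h) hcb1
      · rw [h]
    have hle : (S : Subgroup (W ⧸ P')) ≤ Subgroup.zpowers xb := by
      intro s hs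
      refine hall s ?_
      have h1 : xb ∈ Subgroup.zpowers cb := heq ▸ Subgroup.mem_zpowers xb
      obtain ⟨i, hi⟩ := Subgroup.mem_zpowers_iff.1 h1
      rw [← hi]
      exact Commute.zpow_right (hcb ▸ hcc s hs) i
    have h2 := hS121.trans (Subgroup.card_dvd_of_le hle)
    rw [Nat.card_zpowers, hxbord] at h2
    norm_num at h2
  obtain ⟨g0, hg0⟩ := QuotientGroup.mk'_surjective P' gb
  replace hg0 : mk g0 = gb := hg0
  obtain ⟨p0, hp0, hp0e⟩ := hlift g0 1 (by rw [hg0, pow_one, hgbc.eq, mul_inv_cancel_right])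
  rw [pow_one] at hp0e
  have hp0ne : p0 ≠ 1 := fun h => hgbn (hg0 ▸ hker g0 (by rw [hp0e, h, mul_one]))
  have hp11 : p0 ^ 11 = 1 := by
    rw [← A.card_P a]
    exact congrArg Subtype.val (pow_card_eq_one' (x := (⟨p0, hp0⟩ : A.P a)))
  have hp0ord : orderOf p0 = 11 := orderOf_eq_prime hp11 hp0ne
  have hPgen : ∀ p ∈ A.P a, ∃ n : ℕ, p = p0 ^ n := by
    intro p hp
    have h : Subgroup.zpowers p0 = A.P a := Subgroup.eq_of_le_of_card_ge
      (Subgroup.zpowers_le.2 hp0) (by rw [Nat.card_zpowers, hp0ord, A.card_P])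
    rw [← h] at hp
    obtain ⟨n, hn⟩ := (mem_powers_iff_mem_zpowers).2 hp
    exact ⟨n, hn.symm⟩
  have hg0pow : ∀ n : ℕ, (g0 : G) ^ n * x * ((g0 : G) ^ n)⁻¹ = x * p0 ^ n := by
    intro n
    induction n with
    | zero => simp
    | succ n ih =>
      have hc : (g0 : G) * p0 ^ n = p0 ^ n * g0 := P_comm A g0.2 (pow_mem hp0 n)
      rw [pow_succ', mul_inv_rev, show (g0 : G) * (g0 : G) ^ n * x * (((g0 : G) ^ n)⁻¹ * (g0 : G)⁻¹) =
        g0 * ((g0 : G) ^ n * x * ((g0 : G) ^ n)⁻¹) * (g0 : G)⁻¹ by group, ih,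
        ← mul_assoc, mul_assoc ((g0 : G) * x), ← (Commute.inv_left (show Commute (g0 : G) (p0 ^ n) from hc)).eq,
        ← mul_assoc, hp0e, pow_succ' p0 n, mul_assoc]
  have hcls : ∀ q : W ⧸ P', Commute q xb → ∃ i j : ℕ, q = gb ^ j * xb ^ i := by
    intro q hq
    obtain ⟨g, rfl⟩ := QuotientGroup.mk'_surjective P' q
    obtain ⟨p, hp, hpe⟩ := hlift g 1 (by
      show mk g * xb * (mk g)⁻¹ = xb ^ 1
      rw [pow_one]
      exact mul_inv_eq_iff_eq_mul.2 hq)
    rw [pow_one] at hpe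
    obtain ⟨j, rfl⟩ := hPgen p hp
    have h := hker ((g0 ^ j)⁻¹ * g) (by
      show (((g0 : G) ^ j)⁻¹ * g) * x * (((g0 : G) ^ j)⁻¹ * g)⁻¹ = x
      rw [show (((g0 : G) ^ j)⁻¹ * g) * x * (((g0 : G) ^ j)⁻¹ * g)⁻¹ =
        ((g0 : G) ^ j)⁻¹ * ((g : G) * x * (g : G)⁻¹) * (g0 : G) ^ j by group, hpe, ← hg0pow j]
      group)
    obtain ⟨i, hi⟩ := (mem_powers_iff_mem_zpowers).2 h
    refine ⟨i, j, ?_⟩
    rw [← hg0, show xb ^ i = mk ((g0 ^ j)⁻¹ * g) from hi, map_mul, map_inv, map_pow,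
      mul_inv_cancel_left]
  obtain ⟨j, k, hαg⟩ := hcls (α gb) (by
    have h := hgbc.map α.toMonoidHom
    rwa [MulEquiv.coe_toMonoidHom, hαx] at h)
  have hk1 : (k : ZMod 11) ≠ 1 := by
    intro hk
    -- then `y` centralises `P a`
    have h1 : mk ((g0 ^ k * xW ^ j)⁻¹ * ⟨F.y * g0 * F.y⁻¹, hyW g0 g0.2⟩) = 1 := by
      rw [map_mul, map_inv, ← hα, hg0, map_mul, map_pow, map_pow, hg0]
      show (gb ^ k * xb ^ j)⁻¹ * α gb = 1
      rw [hαg, inv_mul_cancel]
    obtain ⟨p, hp, hpe⟩ : ∃ p ∈ A.P a, F.y * (g0 : G) * F.y⁻¹ = (g0 : G) ^ k * x ^ j * p := by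
      refine ⟨_, (hmk1 _).1 h1, ?_⟩
      show _ = (g0 : G) ^ k * x ^ j * (((g0 : G) ^ k * x ^ j)⁻¹ * (F.y * g0 * F.y⁻¹))
      rw [mul_inv_cancel_left]
    have hc : x ^ j * p * x * (x ^ j * p)⁻¹ = x := by
      have : Commute (x ^ j * p) x :=
        ((Commute.refl x).pow_left j).mul_left (P_comm A E.hxW hp).symm
      rw [this.eq, mul_inv_cancel_right]
    have h2 : F.y * p0 * F.y⁻¹ = p0 := by
      have h3 : (F.y * (g0 : G) * F.y⁻¹) * x * (F.y * (g0 : G) * F.y⁻¹)⁻¹ = x * p0 ^ k := by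
        rw [hpe, show (g0 : G) ^ k * x ^ j * p * x * ((g0 : G) ^ k * x ^ j * p)⁻¹ =
          (g0 : G) ^ k * (x ^ j * p * x * (x ^ j * p)⁻¹) * ((g0 : G) ^ k)⁻¹ by group, hc, hg0pow]
      have hyx' : F.y⁻¹ * x * F.y = x := by rw [mul_assoc, ← hyx.eq, inv_mul_cancel_left]
      have hyx'' : F.y * x * F.y⁻¹ = x := by rw [hyx.eq, mul_inv_cancel_right]
      rw [show (F.y * (g0 : G) * F.y⁻¹) * x * (F.y * (g0 : G) * F.y⁻¹)⁻¹ =
        F.y * ((g0 : G) * (F.y⁻¹ * x * F.y) * (g0 : G)⁻¹) * F.y⁻¹ by group, hyx', hp0e,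
        show F.y * (x * p0) * F.y⁻¹ = (F.y * x * F.y⁻¹) * (F.y * p0 * F.y⁻¹) by group, hyx''] at h3
      have h4 := mul_left_cancel h3
      have h5 : k ≡ 1 [MOD orderOf p0] := by
        rw [hp0ord, ← ZMod.natCast_eq_natCast_iff, Nat.cast_one]
        exact hk
      rw [h4, pow_eq_pow_iff_modEq.2 h5, pow_one]
    refine y_notMem A hab F.y_ne_one F.yb F.fix ((A.W_iff a F.y).2 ?_)
    intro p' hp'
    obtain ⟨n, rfl⟩ := hPgen p' hp'
    exact (Commute.pow_right (mul_inv_eq_iff_eq_mul.1 h2) n)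
  have hk10 : (k : ZMod 11) + 10 ≠ 0 := fun h => hk1 (by
    have : (k : ZMod 11) = -10 := eq_neg_of_add_eq_zero_left h
    rw [this]; exact zmod_neg_ten)
  have hgb11 : gb ^ 11 = 1 := by
    obtain ⟨l, hl⟩ : ∃ l : ℕ, gb ^ 11 = xb ^ l := by
      have h := hker (g0 ^ 11) (by
        show (g0 : G) ^ 11 * x * ((g0 : G) ^ 11)⁻¹ = x
        rw [hg0pow, hp11, mul_one])
      rw [map_pow, hg0] at h
      obtain ⟨l, hl⟩ := (mem_powers_iff_mem_zpowers).2 h
      exact ⟨l, hl.symm⟩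
    have h1 := congrArg α hl
    rw [map_pow, map_pow, hαx, hαg, (hgbc.pow_pow k j).mul_pow, ← pow_mul, ← pow_mul,
      mul_comm k 11, pow_mul, hl, ← pow_mul, ← pow_add, pow_eq_pow_iff_modEq, hxbord,
      ← ZMod.natCast_eq_natCast_iff] at h1
    push_cast at h1
    have h2 : (l : ZMod 11) * ((k : ZMod 11) - 1) = 0 := by
      have h11 : (11 : ZMod 11) = 0 := zmod_eleven
      rw [h11] at h1
      linear_combination h1
    rcases mul_eq_zero.1 h2 with h | h
    · rw [hl, ← orderOf_dvd_iff_pow_eq_one, hxbord]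
      exact (ZMod.natCast_eq_zero_iff _ _).1 h
    · exact absurd (sub_eq_zero.1 h) hk1
  obtain ⟨z, hz⟩ : ∃ z, z = gb ^ (k + 10) * xb ^ j := ⟨_, rfl⟩
  have hz11 : z ^ 11 = 1 := by
    rw [hz, (hgbc.pow_pow _ _).mul_pow, ← pow_mul, ← pow_mul, mul_comm, pow_mul, hgb11, one_pow,
      one_mul, mul_comm, pow_mul, hxb11, one_pow]
  obtain ⟨e, he⟩ : ∃ e : ℕ, ((k + 10) * e) % 11 = 1 := by
    refine ⟨(((k : ZMod 11) + 10)⁻¹).val, ?_⟩
    have h : (((k + 10) * (((k : ZMod 11) + 10)⁻¹).val : ℕ) : ZMod 11) = ((1 : ℕ) : ZMod 11) := by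
      push_cast [ZMod.natCast_zmod_val]
      exact mul_inv_cancel₀ hk10
    rw [ZMod.natCast_eq_natCast_iff'] at h
    exact h
  have hgbz : gb = z ^ e * xb ^ (10 * j * e) := by
    rw [hz, (hgbc.pow_pow _ _).mul_pow, ← pow_mul, ← pow_mul, mul_assoc, ← pow_add,
      pow_eq_pow_mod ((k + 10) * e) hgb11, he, pow_one,
      show j * e + 10 * j * e = 11 * (j * e) by ring, pow_mul, hxb11, one_pow, mul_one]
  have hzn : z ∉ Subgroup.zpowers xb := fun h => hgbn (hgbz ▸ Subgroup.mul_mem _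
    (Subgroup.pow_mem _ h _) (Subgroup.pow_mem _ (Subgroup.mem_zpowers xb) _))
  have hzord : orderOf z = 11 := orderOf_eq_prime hz11 fun h => hzn (h ▸ Subgroup.one_mem _)
  have hzc : Commute z xb := hz ▸ (hgbc.pow_left _).mul_left ((Commute.refl xb).pow_left _)
  obtain ⟨θ, hθ⟩ := H63.Eleven.exists_hom_of_small_centralizer (W ⧸ P')
    (by rw [hcardW]; exact hu.mul hv) α xb z hα5 hxbord hzord hzn hzc.symm.eq hαx
    ⟨k, by
      rw [hz, map_mul, map_pow, map_pow, hαx, hαg, (hgbc.pow_pow k j).mul_pow, ← pow_mul, ← pow_mul,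
        (hgbc.pow_pow _ _).mul_pow, ← pow_mul, ← pow_mul, mul_comm k, mul_assoc, ← pow_add]
      congr 1
      rw [pow_eq_pow_iff_modEq, hxbord, ← ZMod.natCast_eq_natCast_iff]
      push_cast
      have h11 : (11 : ZMod 11) = 0 := zmod_eleven
      linear_combination (j : ZMod 11) * h11,
      fun h => hk1 (by
        rw [← Nat.cast_one, ZMod.natCast_eq_natCast_iff']
        exact h)⟩
    (by
      intro q hq
      obtain ⟨i, n, rfl⟩ := hcls q hq
      refine ⟨10 * j * e * n + i, e * n, ?_⟩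
      have hc : Commute z (xb ^ (10 * j * e)) := hzc.pow_right _
      rw [hgbz, (hc.pow_left e).mul_pow, ← pow_mul, ← pow_mul, mul_assoc, ← pow_add]
      exact (hzc.pow_pow _ _).eq)
    (by
      intro q hq
      obtain ⟨g, rfl⟩ := QuotientGroup.mk'_surjective P' q
      obtain ⟨n, hn⟩ := (mem_powers_iff_mem_zpowers).2 hq
      have hn' : mk g * xb * (mk g)⁻¹ = xb ^ n := hn.symm
      suffices hn1 : xb ^ n = xb by rw [hn1] at hn'; exact mul_inv_eq_iff_eq_mul.1 hn'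
      by_contra hne
      have hn1 : (n : ZMod 11) - 1 ≠ 0 := by
        intro h
        apply hne
        rw [sub_eq_zero, ← Nat.cast_one, ZMod.natCast_eq_natCast_iff, ← hxbord,
          ← pow_eq_pow_iff_modEq, pow_one] at h
        exact h
      obtain ⟨p, hp, hpe⟩ := hlift g n hn'
      obtain ⟨r, rfl⟩ := hPgen p hp
      obtain ⟨s, hs⟩ : ∃ s : ℕ, p0 ^ r * p0 ^ s = (p0 ^ s) ^ n := by
        refine ⟨((r : ZMod 11) / ((n : ZMod 11) - 1)).val, ?_⟩
        rw [← pow_add, ← pow_mul, pow_eq_pow_iff_modEq, hp0ord, ← ZMod.natCast_eq_natCast_iff]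
        push_cast [ZMod.natCast_zmod_val]
        field_simp
        ring
      have hgW : ((g0 : G) ^ s)⁻¹ * g * (g0 : G) ^ s ∈ A.W a :=
        mul_mem (mul_mem (inv_mem (pow_mem g0.2 s)) g.2) (pow_mem g0.2 s)
      have hconj : (((g0 : G) ^ s)⁻¹ * g * (g0 : G) ^ s) * x *
          (((g0 : G) ^ s)⁻¹ * g * (g0 : G) ^ s)⁻¹ = x ^ n := by
        have hxp : Commute x (p0 ^ s) := P_comm A E.hxW (pow_mem hp0 s)
        have hgp : (g : G) * p0 ^ s * (g : G)⁻¹ = p0 ^ s := by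
          rw [P_comm A g.2 (pow_mem hp0 s), mul_inv_cancel_right]
        calc _ = ((g0 : G) ^ s)⁻¹ * ((g : G) * ((g0 : G) ^ s * x * ((g0 : G) ^ s)⁻¹) * (g : G)⁻¹) *
              (g0 : G) ^ s := by group
          _ = ((g0 : G) ^ s)⁻¹ * (((g : G) * x * (g : G)⁻¹) * ((g : G) * p0 ^ s * (g : G)⁻¹)) *
              (g0 : G) ^ s := by rw [hg0pow]; group
          _ = ((g0 : G) ^ s)⁻¹ * ((g0 : G) ^ s * x * ((g0 : G) ^ s)⁻¹) ^ n * (g0 : G) ^ s := by
            rw [hpe, hgp, mul_assoc (x ^ n), hs, ← hxp.mul_pow, ← hg0pow]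
          _ = x ^ n := by rw [conj_pow]; group
      have hcm := E.norm_comm hgW (by rw [hconj]; exact Subgroup.pow_mem _ (Subgroup.mem_zpowers x) n)
      rw [hcm, mul_inv_cancel_right] at hconj
      apply hne
      have h : xW ^ n = xW := Subtype.ext hconj.symm
      show xb ^ n = xb
      rw [← map_pow, h])
  -- transfer
  let φ : W →* Multiplicative (ZMod 11) := θ.comp mk
  have hφconj : ∀ (w z : W), φ (w⁻¹ * z * w) = φ z := fun w z => by
    rw [map_mul, map_mul, map_inv, mul_comm (φ w)⁻¹, inv_mul_cancel_right]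
  have hM : ∀ m ∈ M2 G a b, ∃ x' : W, ∃ m' : G, m = m' * x' ∧ Commute m' x := by
    intro m hm
    by_cases hinv : ∃ s : G, s * s = 1 ∧ s ≠ 1 ∧ s • a = a ∧ s • b = b
    · obtain ⟨s, hs1, hs2, hs3, hs4⟩ := hinv
      obtain ⟨t, ht1, ht2, hta, htb, htx⟩ := ht s hs1 hs2 hs3 hs4
      have htW := not_mem_W_of_inv A hv hu ht1 ht2 a
      obtain ⟨i, x', hx', -, hmx | hmx⟩ := F.decomp hv ht1 ht2 htW hta htb hm
      · exact ⟨⟨x', hx'⟩, F.y ^ (i : ℕ), hmx, hyx.pow_left _⟩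
      · have htinv : t⁻¹ = t := inv_eq_of_mul_eq_one_right ht1
        have hx'' : t * x' * t ∈ W := by
          have h := W_conj_fix A hta hx'
          rwa [htinv] at h
        refine ⟨⟨t * x' * t, hx''⟩, F.y ^ (i : ℕ) * t, ?_,
          (hyx.pow_left _).mul_left htx⟩
        rw [hmx]
        simp only [← mul_assoc]
        rw [mul_assoc (F.y ^ (i : ℕ)) t t, ht1, mul_one]
    · have hM5 : Nat.card (M2 G a b) = 5 * A.v := by
        refine (card_M_cases A hab).resolve_right fun h10 => ?_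
        haveI : Fact (Nat.Prime 2) := ⟨Nat.prime_two⟩
        obtain ⟨t', hord⟩ := exists_prime_orderOf_dvd_card' 2
          (show 2 ∣ Nat.card (M2 G a b) by rw [h10]; exact Dvd.intro (5 * A.v) (by ring))
        rw [← Subgroup.orderOf_coe] at hord
        obtain ⟨t, hta, htb⟩ := t'
        exact hinv ⟨t, (orderOf_two_iff.1 hord).1, (orderOf_two_iff.1 hord).2, hta, htb⟩
      obtain ⟨i, x', hx', -, hmx⟩ := M_decomp A hab hM5 F.hy F.ya F.yb F.fix hm
      exact ⟨⟨x', hx'⟩, F.y ^ (i : ℕ), hmx, hyx.pow_left _⟩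
  have hstab : ∀ s : G, s • a = a → ∀ hs : s⁻¹ * x * s ∈ W, φ ⟨_, hs⟩ = φ xW := by
    intro s hs hsW
    obtain ⟨w, hw, hwb⟩ := exists_W_smul A (b := s⁻¹ • b) (c := b) (a := a)
      (fun h => hab (by rw [inv_smul_eq_iff, hs] at h; exact h.symm)) hab.symm
    have hm : s * w⁻¹ ∈ M2 G a b := by
      refine ⟨?_, ?_⟩
      · show (s * w⁻¹) • a = a
        rw [mul_smul, inv_smul_eq_iff.2 (smul_of_mem A hw).symm, hs]
      · show (s * w⁻¹) • b = b
        rw [mul_smul]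
        conv_lhs => rw [← hwb, inv_smul_smul, smul_inv_smul]
    obtain ⟨x', m', hm', hc⟩ := hM _ hm
    have he : s = m' * (x' * w) := by rw [← mul_assoc, ← hm', inv_mul_cancel_right]
    have hz : (⟨_, hsW⟩ : W) = (x' * ⟨w, hw⟩)⁻¹ * xW * (x' * ⟨w, hw⟩) := by
      refine Subtype.ext ?_
      show s⁻¹ * x * s = ((x' : G) * w)⁻¹ * x * ((x' : G) * w)
      have hmx : m'⁻¹ * x * m' = x := by rw [mul_assoc, ← hc.eq, inv_mul_cancel_left]
      calc s⁻¹ * x * s = ((x' : G) * w)⁻¹ * (m'⁻¹ * x * m') * ((x' : G) * w) := by rw [he]; group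
        _ = _ := by rw [hmx]
    rw [hz, hφconj]
  obtain ⟨N, hN, hNmod⟩ := transfer_eq_pow_of_const W φ (p := 11) (by norm_num) x E.x11 (φ xW) (by
    intro g hg
    have hfix : x • (g • a) = g • a := by
      have h := smul_of_mem A hg
      rwa [mul_smul, mul_smul, inv_smul_eq_iff] at h
    have hc := (A.V_fix a b x hab E.hxW E.hxb E.x_ne _).1 hfix
    obtain ⟨k, hkc, hka⟩ : ∃ k : G, Commute x k ∧ k • a = g • a := by
      by_cases h : g • a = a
      · exact ⟨1, Commute.one_right x, by rw [one_smul, h]⟩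
      · obtain ⟨F'⟩ := frame_exists A (Ne.symm h)
        exact ⟨F'.w, F'.wV x E.hxW hfix, F'.wa⟩
    have hs : (k⁻¹ * g) • a = a := by rw [mul_smul, ← hka, inv_smul_smul]
    have he : g⁻¹ * x * g = (k⁻¹ * g)⁻¹ * x * (k⁻¹ * g) := by
      rw [mul_inv_rev, inv_inv]
      have hkx : k * x * k⁻¹ = x := by rw [← hkc.eq, mul_inv_cancel_right]
      conv_lhs => rw [← hkx]
      group
    exact (congrArg φ (Subtype.ext he :
      (⟨_, hg⟩ : W) = ⟨(k⁻¹ * g)⁻¹ * x * (k⁻¹ * g), he ▸ hg⟩)).trans (hstab _ hs _))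
  have htriv : MonoidHom.transfer φ x = 1 := by
    haveI := A.simple
    rcases Subgroup.Normal.eq_bot_or_eq_top
      (inferInstance : (MonoidHom.ker (MonoidHom.transfer φ)).Normal) with h | h
    · obtain ⟨g, g', hgg⟩ := A.noncomm
      exact absurd ((MonoidHom.ker_eq_bot_iff _).1 h (by rw [map_mul, map_mul, mul_comm])) hgg
    · exact MonoidHom.mem_ker.1 (h ▸ Subgroup.mem_top x)
  rw [hN] at htriv
  have hord : orderOf (φ xW) = 11 := by
    refine orderOf_eq_prime ?_ hθ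
    rw [← map_pow, show xW ^ 11 = 1 from Subtype.ext E.x11, map_one]
  have hN0 : 11 ∣ N := hord ▸ orderOf_dvd_of_pow_eq_one htriv
  have hidx : W.index = (A.W a).relIndex (MulAction.stabilizer G a) * (11 * A.u + 1) := by
    rw [← Subgroup.relIndex_mul_index (A.W_le a)]
    congr 1
    have h := (MulAction.stabilizer G a).card_mul_index
    rw [card_G A hab, ← card_stab A hab, mul_comm (11 * A.u + 1)] at h
    exact Nat.eq_of_mul_eq_mul_left Nat.card_pos h
  have hr := index_W A hab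
  obtain ⟨r, hr'⟩ : ∃ r, r = (A.W a).relIndex (MulAction.stabilizer G a) := ⟨_, rfl⟩
  rw [← hr'] at hidx hr
  have hr510 : r = 5 ∨ r = 10 := by
    rcases card_M_cases A hab with h | h <;> rw [h] at hr
    · exact Or.inl (Nat.eq_of_mul_eq_mul_right (v_pos A) hr)
    · exact Or.inr (Nat.eq_of_mul_eq_mul_right (v_pos A) hr)
  rw [hidx] at hNmod
  unfold Nat.ModEq at hNmod
  rw [Nat.mul_mod] at hNmod
  rcases hr510 with rfl | rfl <;> omega

end H66.Eleven
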