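import Cfsg.Agent.H66.Eleven.Frame

/-!
Counting the involutions with fixed points in S3403, case A, `u` and `v` odd.
-/

set_option autoImplicit false
set_option linter.unusedSectionVars false

open MulAction H63.Eleven

namespace H66.Eleven

universe u v

variable {G : Type u} {Ω : Type v} [Group G] [Finite G] [MulAction G Ω] (A : ACore G Ω)

/-- The fixed points of `t`. -/
abbrev fixSet (Ω : Type v) {G : Type u} [Group G] [MulAction G Ω] (t : G) : Set Ω :=
  {c | t • c = c}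

/-- The involutions fixing two given points. -/
abbrev inv2 (G : Type u) {Ω : Type v} [Group G] [MulAction G Ω] (a b : Ω) : Set G :=
  {g | g * g = 1 ∧ g ≠ 1 ∧ g • a = a ∧ g • b = b}

/-- The involutions with fixed points that swap two given points. -/
abbrev swap2 (G : Type u) {Ω : Type v} [Group G] [MulAction G Ω] (a b : Ω) : Set G :=
  {g | g * g = 1 ∧ g ≠ 1 ∧ g • a = b ∧ ∃ c : Ω, g • c = c}

theorem fixSet_conj (g t : G) : fixSet Ω (g * t * g⁻¹) = (fun c => g • c) '' fixSet Ω t := by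
  ext c
  simp only [fixSet, Set.mem_setOf_eq, Set.mem_image, mul_smul]
  constructor
  · intro h
    exact ⟨g⁻¹ • c, smul_eq_iff_eq_inv_smul _ |>.1 h, smul_inv_smul g c⟩
  · rintro ⟨d, hd, rfl⟩
    rw [inv_smul_smul, hd]

theorem ncard_fix_eq (hv : Odd A.v) (hu : Odd A.u) {s t : G} {c e : Ω} (hs : s * s = 1)
    (hs1 : s ≠ 1) (hc : s • c = c) (ht : t * t = 1) (ht1 : t ≠ 1) (he : t • e = e) :
    (fixSet Ω s).ncard = (fixSet Ω t).ncard := by
  obtain ⟨g, rfl⟩ := conj_of_fix A hv hu hs hs1 hc ht ht1 he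
  rw [fixSet_conj, Set.ncard_image_of_injective _ (MulAction.injective g)]

theorem conj_mem_iff {g x : G} {c : Ω} : (g * x * g⁻¹) • (g • c) = g • c ↔ x • c = c := by
  rw [mul_smul, inv_smul_smul, mul_smul, smul_left_cancel_iff]

theorem conj_sq_iff {g x : G} : g * x * g⁻¹ * (g * x * g⁻¹) = 1 ↔ x * x = 1 := by
  rw [show g * x * g⁻¹ * (g * x * g⁻¹) = g * (x * x) * g⁻¹ by group, mul_inv_eq_one, mul_eq_left]

include A in
theorem ncard_inv2_eq {a b c d : Ω} (hab : a ≠ b) (hcd : c ≠ d) :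
    (inv2 G c d).ncard = (inv2 G a b).ncard := by
  obtain ⟨g, rfl, rfl⟩ := A.twoTrans a b c d hab hcd
  symm
  refine Set.ncard_congr (fun x _ => g * x * g⁻¹) (fun x hx => ?_) (fun x y _ _ h => by simpa using h)
    fun x hx => ⟨g⁻¹ * x * g, ?_, by group⟩
  · exact ⟨conj_sq_iff.2 hx.1, fun h => hx.2.1 (by simpa [mul_inv_eq_one] using h),
      conj_mem_iff.2 hx.2.2.1, conj_mem_iff.2 hx.2.2.2⟩
  · have he : g * (g⁻¹ * x * g) * g⁻¹ = x := by group
    obtain ⟨h1, h2, h3, h4⟩ := hx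
    rw [← he] at h1 h2 h3 h4
    exact ⟨conj_sq_iff.1 h1, fun h => h2 (by rw [h]; group), conj_mem_iff.1 h3, conj_mem_iff.1 h4⟩

include A in
theorem ncard_swap2_eq {a b c d : Ω} (hab : a ≠ b) (hcd : c ≠ d) :
    (swap2 G c d).ncard = (swap2 G a b).ncard := by
  obtain ⟨g, rfl, rfl⟩ := A.twoTrans a b c d hab hcd
  symm
  refine Set.ncard_congr (fun x _ => g * x * g⁻¹) (fun x hx => ?_) (fun x y _ _ h => by simpa using h)
    fun x hx => ⟨g⁻¹ * x * g, ?_, by group⟩
  · obtain ⟨h1, h2, h3, e, he⟩ := hx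
    exact ⟨conj_sq_iff.2 h1, fun h => h2 (by simpa [mul_inv_eq_one] using h),
      by rw [mul_smul, inv_smul_smul, mul_smul, h3], g • e, conj_mem_iff.2 he⟩
  · obtain ⟨h1, h2, h3, e, he⟩ := hx
    refine ⟨?_, fun h => h2 ?_, ?_, g⁻¹ • e, ?_⟩
    · rw [show g⁻¹ * x * g * (g⁻¹ * x * g) = g⁻¹ * (x * x) * g by group, h1, mul_one, inv_mul_cancel]
    · rw [show x = g * (g⁻¹ * x * g) * g⁻¹ by group, h, mul_one, mul_inv_cancel]
    · rw [mul_smul, mul_smul, h3, inv_smul_smul]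
    · rw [mul_smul, mul_smul, smul_inv_smul, he]

namespace Frame

variable {A} {a b : Ω} (F : Frame A a b)

/-- The swapping involutions with fixed points. -/
theorem swap2_eq (hv : Odd A.v) (hu : Odd A.u) (hne : (inv2 G a b).Nonempty) :
    swap2 G a b = {g | ∃ i : Fin 5, g = F.w * F.y ^ (i : ℕ) ∧ ∃ c : Ω, F.w • c = c} ∪
      (fun p : Fin 5 × G => F.w * F.y ^ (p.1 : ℕ) * p.2) '' (Set.univ ×ˢ inv2 G a b) := by
  have hy5 := F.y5
  have hconj : ∀ i : Fin 5, F.w * F.y ^ (i : ℕ) =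
      F.y ^ ((2 * i : Fin 5) : ℕ) * F.w * (F.y ^ ((2 * i : Fin 5) : ℕ))⁻¹ := by
    intro i
    rw [w_pow_fin hy5 F.ww F.wy, ← pow_fin_neg hy5, mul_assoc, w_pow_fin hy5 F.ww F.wy,
      ← mul_assoc, ← pow_fin_add hy5]
    congr 3
    exact (by decide +revert : ∀ i : Fin 5, -i = 2 * i + -(-(2 * i))) i
  ext g
  constructor
  · rintro ⟨hg, hg1, hga, c, hc⟩
    obtain ⟨t, ht, ht1, hta, htb⟩ := hne
    have htW := not_mem_W_of_inv A hv hu ht ht1 a
    have hgb : g • b = a := by rw [← hga, ← mul_smul, hg, one_smul]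
    have hm : F.w * g ∈ M2 G a b :=
      ⟨show (F.w * g) • a = a by rw [mul_smul, hga, F.wb],
        show (F.w * g) • b = b by rw [mul_smul, hgb, F.wa]⟩
    obtain ⟨i, x, hx, hxb, hm'⟩ := F.decomp hv ht ht1 htW hta htb hm
    have hgeq : ∀ z, F.w * g = z → g = F.w * z := fun z hz => by
      rw [← hz, ← mul_assoc, F.ww, one_mul]
    rcases hm' with hm' | hm'
    · have hge : g = F.w * F.y ^ (i : ℕ) * x := by rw [hgeq _ hm', mul_assoc]
      have hx1 : x = 1 :=
        swap_sq A hv F.hab F.ww F.wy (F.yV x hx hxb) (F.wV x hx hxb) hx hxb i (hge ▸ hg)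
      rw [hx1, mul_one] at hge
      refine Or.inl ⟨i, hge, (F.y ^ ((2 * i : Fin 5) : ℕ))⁻¹ • c, ?_⟩
      rw [hge, hconj i, mul_smul, mul_smul] at hc
      exact (smul_eq_iff_eq_inv_smul _).1 hc
    · obtain ⟨j, hj⟩ : ∃ j, j = x * t := ⟨_, rfl⟩
      have hge : g = F.w * F.y ^ (i : ℕ) * j := by rw [hgeq _ hm', hj]; simp only [mul_assoc]
      have hjc : Commute j (F.w * F.y ^ (i : ℕ)) := by
        rw [hj]
        refine Commute.mul_left ?_ ?_
        · exact Commute.mul_right (F.wV x hx hxb) (Commute.pow_right (F.yV x hx hxb) _)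
        · exact Commute.mul_right (F.wT t ht hta htb htW) (Commute.pow_right (F.yT t ht hta htb) _)
      have hjj : j * j = 1 := by
        have h := hg
        rw [hge, show F.w * F.y ^ (i : ℕ) * j * (F.w * F.y ^ (i : ℕ) * j) =
          F.w * F.y ^ (i : ℕ) * (j * (F.w * F.y ^ (i : ℕ))) * j by group, hjc.eq,
          show F.w * F.y ^ (i : ℕ) * (F.w * F.y ^ (i : ℕ) * j) * j =
          F.w * F.y ^ (i : ℕ) * (F.w * F.y ^ (i : ℕ)) * (j * j) by group,
          wy_sq F.ww F.wy, one_mul] at h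
        exact h
      refine Or.inr ⟨(i, j), ⟨trivial, hjj, fun h1 => htW ?_, ?_, ?_⟩, hge.symm⟩
      · rw [hj, mul_eq_one_iff_eq_inv] at h1
        rw [← inv_inv t, ← h1]
        exact inv_mem hx
      · rw [hj, mul_smul, hta]; exact smul_of_mem A hx
      · rw [hj, mul_smul, htb, hxb]
  · rintro (⟨i, rfl, c, hc⟩ | ⟨⟨i, j⟩, ⟨-, hj, hj1, hja, hjb⟩, rfl⟩)
    · have h : (F.w * F.y ^ (i : ℕ)) • a = b := by rw [mul_smul, F.ypow_a, F.wa]
      refine ⟨wy_sq F.ww F.wy _, fun h1 => ?_, h, F.y ^ ((2 * i : Fin 5) : ℕ) • c, ?_⟩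
      · rw [h1, one_smul] at h
        exact F.hab h
      · rw [hconj i, mul_smul, inv_smul_smul, mul_smul, hc]
    · have hjW := not_mem_W_of_inv A hv hu hj hj1 a
      have hjc : Commute j (F.w * F.y ^ (i : ℕ)) :=
        Commute.mul_right (F.wT j hj hja hjb hjW) (Commute.pow_right (F.yT j hj hja hjb) _)
      have hsq : F.w * F.y ^ (i : ℕ) * j * (F.w * F.y ^ (i : ℕ) * j) = 1 := by
        rw [show F.w * F.y ^ (i : ℕ) * j * (F.w * F.y ^ (i : ℕ) * j) =
          F.w * F.y ^ (i : ℕ) * (j * (F.w * F.y ^ (i : ℕ))) * j by group, hjc.eq,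
          show F.w * F.y ^ (i : ℕ) * (F.w * F.y ^ (i : ℕ) * j) * j =
          F.w * F.y ^ (i : ℕ) * (F.w * F.y ^ (i : ℕ)) * (j * j) by group,
          wy_sq F.ww F.wy, hj, one_mul]
      have hsa : (F.w * F.y ^ (i : ℕ) * j) • a = b := by
        rw [mul_smul, hja, mul_smul, F.ypow_a, F.wa]
      have hsb : (F.w * F.y ^ (i : ℕ) * j) • b = a := by
        rw [mul_smul, hjb, mul_smul, F.ypow_b, F.wb]
      refine ⟨hsq, fun h1 => ?_, hsa, ?_⟩
      · simp only at h1
        rw [h1, one_smul] at hsa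
        exact F.hab hsa
      · by_contra hno
        push Not at hno
        obtain ⟨k, x, hx, hxb, he⟩ := F.wclass _ hsq hsa hsb (fun c _ => hno c)
        rw [mul_assoc, mul_assoc] at he
        have he' := mul_left_cancel he
        refine F.ne_ypow_mul hj hjW hx hxb (((-i : Fin 5) : ℕ) + k) ?_
        rw [pow_add, mul_assoc, ← he', pow_fin_neg hy5, inv_mul_cancel_left]

theorem ncard_swap2 (hv : Odd A.v) (hu : Odd A.u) (hne : (inv2 G a b).Nonempty) :
    ((∃ c : Ω, F.w • c = c) → (swap2 G a b).ncard = 5 + 5 * (inv2 G a b).ncard) ∧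
    ((∀ c : Ω, F.w • c ≠ c) → (swap2 G a b).ncard = 5 * (inv2 G a b).ncard) := by
  have hy5 := F.y5
  have hinjp : Set.InjOn (fun p : Fin 5 × G => F.w * F.y ^ (p.1 : ℕ) * p.2)
      (Set.univ ×ˢ inv2 G a b) := by
    rintro ⟨i, j⟩ ⟨-, hj, -, hja, hjb⟩ ⟨i', j'⟩ ⟨-, hj', -, -, -⟩ h
    have h' : j' = F.y ^ ((-i' + i : Fin 5) : ℕ) * j := by
      rw [pow_fin_add hy5, pow_fin_neg hy5, mul_assoc, eq_inv_mul_iff_mul_eq]
      exact (mul_left_cancel ((mul_assoc _ _ _).symm.trans (h.trans (mul_assoc _ _ _)))).symm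
    have hc : Commute j (F.y ^ ((-i' + i : Fin 5) : ℕ)) :=
      Commute.pow_right (F.yT j hj hja hjb) _
    have h2 : F.y ^ ((-i' + i + (-i' + i) : Fin 5) : ℕ) = 1 := by
      have hh := hj'
      rw [h', mul_assoc, ← mul_assoc j, hc.eq, mul_assoc, hj, mul_one, ← pow_fin_add hy5] at hh
      exact hh
    have h3 : -i' + i = 0 := by
      by_contra h0
      have h5 : (-i' + i + (-i' + i) : Fin 5) ≠ 0 := by
        intro h6
        exact h0 ((by decide +revert : ∀ d : Fin 5, d + d = 0 → d = 0) _ h6)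
      exact F.y_ne_one (Subgroup.mem_bot.1 (mem_of_pow_fin_mem ⊥ F.hy h5
        (Subgroup.mem_bot.2 h2)))
    have hii : i = i' := (neg_add_eq_zero.1 h3).symm
    subst hii
    rw [h3, Fin.val_zero, pow_zero, one_mul] at h'
    rw [h']
  have h2 : ((fun p : Fin 5 × G => F.w * F.y ^ (p.1 : ℕ) * p.2) ''
      (Set.univ ×ˢ inv2 G a b)).ncard = 5 * (inv2 G a b).ncard := by
    rw [Set.ncard_image_of_injOn hinjp, Set.ncard_prod, Set.ncard_univ, Nat.card_fin]
  rw [F.swap2_eq hv hu hne]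
  constructor
  · intro hfix
    have h1 : {g | ∃ i : Fin 5, g = F.w * F.y ^ (i : ℕ) ∧ ∃ c : Ω, F.w • c = c} =
        Set.range fun i : Fin 5 => F.w * F.y ^ (i : ℕ) := by
      ext g
      exact ⟨fun ⟨i, hi, _⟩ => ⟨i, hi.symm⟩, fun ⟨i, hi⟩ => ⟨i, hi.symm, hfix⟩⟩
    rw [h1, Set.ncard_union_eq ?_, h2, Set.ncard_range_of_injective, Nat.card_fin]
    · intro i j hij
      exact (ypow_mul_inj A F.hab F.hy F.yb F.fix (one_mem _) (one_mem _)
        (by rw [mul_one, mul_one]; exact mul_left_cancel hij)).1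
    · rw [Set.disjoint_left]
      rintro _ ⟨i, rfl⟩ ⟨⟨i', j⟩, ⟨-, hj, hj1, -, -⟩, h⟩
      refine F.ne_ypow_mul hj (not_mem_W_of_inv A hv hu hj hj1 a) (one_mem _) (one_smul _ _)
        ((-i' + i : Fin 5) : ℕ) ?_
      rw [mul_one, pow_fin_add hy5, pow_fin_neg hy5, eq_inv_mul_iff_mul_eq]
      exact mul_left_cancel ((mul_assoc _ _ _).symm.trans h)
  · intro hno
    have h1 : {g | ∃ i : Fin 5, g = F.w * F.y ^ (i : ℕ) ∧ ∃ c : Ω, F.w • c = c} = (∅ : Set G) := by
      ext g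
      simp only [Set.mem_setOf_eq, Set.mem_empty_iff_false, iff_false]
      rintro ⟨-, -, c, hc⟩
      exact hno c hc
    rw [h1, Set.empty_union, h2]

end Frame

/-- The basic equation: `a' (n - f) = k f (f - 1)`. -/
theorem count_eq (hv : Odd A.v) (hu : Odd A.u) {a b : Ω} (hab : a ≠ b) {t : G} (ht : t * t = 1)
    (ht1 : t ≠ 1) (hta : t • a = a) :
    (inv2 G a b).ncard * (11 * A.u + 1 - (fixSet Ω t).ncard) =
      (swap2 G a b).ncard * (fixSet Ω t).ncard * ((fixSet Ω t).ncard - 1) := by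
  classical
  haveI := finiteΩ A
  haveI := Fintype.ofFinite Ω
  haveI := Fintype.ofFinite G
  have hn : Fintype.card Ω = 11 * A.u + 1 := by rw [← Nat.card_eq_fintype_card, A.card_points]
  obtain ⟨f, hf⟩ : ∃ f, f = (fixSet Ω t).ncard := ⟨_, rfl⟩
  obtain ⟨k, hk⟩ : ∃ k, k = (swap2 G a b).ncard := ⟨_, rfl⟩
  obtain ⟨a', ha'⟩ : ∃ a', a' = (inv2 G a b).ncard := ⟨_, rfl⟩
  rw [← hf, ← hk, ← ha']
  let T : Finset G := Finset.univ.filter fun g => g * g = 1 ∧ g ≠ 1 ∧ ∃ c : Ω, g • c = c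
  have hT : ∀ g, g ∈ T ↔ g * g = 1 ∧ g ≠ 1 ∧ ∃ c : Ω, g • c = c := fun g => by simp [T]
  have hfix : ∀ g ∈ T, (Finset.univ.filter fun c : Ω => g • c = c).card = f := by
    intro g hg
    obtain ⟨h1, h2, c, hc⟩ := (hT g).1 hg
    rw [hf, ← ncard_fix_eq A hv hu h1 h2 hc ht ht1 hta, ← Set.ncard_coe_finset]
    congr 1
    ext d
    simp
  let S : Ω → Finset G := fun c => T.filter fun g => g • c = c
  have hS : ∀ c, (S c).card = (S a).card := by
    intro c
    obtain ⟨g, hg⟩ : ∃ g : G, g • a = c := by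
      have h : c ∈ MulAction.orbit G a := by rw [orbit_top A a]; trivial
      exact h
    refine (Finset.card_equiv (MulAut.conj g).toEquiv fun x => ?_).symm
    simp only [S, hT, Finset.mem_filter, MulEquiv.toEquiv_eq_coe, EquivLike.coe_coe,
      MulAut.conj_apply, conj_sq_iff, ← hg, conj_mem_iff, ne_eq, mul_inv_eq_one, mul_eq_left]
    refine and_congr_left fun hxa => and_congr_right fun _ => and_congr_right fun _ => ?_
    exact ⟨fun ⟨d, hd⟩ => ⟨g • d, conj_mem_iff.2 hd⟩, fun _ => ⟨a, hxa⟩⟩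
  have e1 : T.card * f = (11 * A.u + 1) * (S a).card := by
    have h := Finset.card_mul_eq_card_mul (s := T) (t := (Finset.univ : Finset Ω))
      (fun (g : G) (c : Ω) => g • c = c) (m := f) (n := (S a).card) (fun g hg => hfix g hg)
      (fun c _ => hS c)
    rwa [Finset.card_univ, hn] at h
  have e2 : T.card * (11 * A.u + 1 - f) = (11 * A.u + 1) * (11 * A.u) * k := by
    have h := Finset.card_mul_eq_card_mul (s := T) (t := (Finset.univ : Finset Ω).offDiag)
      (fun (g : G) (p : Ω × Ω) => g • p.1 = p.2) (m := 11 * A.u + 1 - f) (n := k) ?_ ?_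
    · rw [h, Finset.offDiag_card, Finset.card_univ, hn]
      congr 1
      rw [Nat.mul_add, mul_one, Nat.add_sub_cancel]
    · intro g hg
      have heq : Finset.bipartiteAbove (fun (g : G) (p : Ω × Ω) => g • p.1 = p.2)
          (Finset.univ : Finset Ω).offDiag g =
            ((Finset.univ : Finset Ω).filter fun d => ¬ g • d = d).image fun d => (d, g • d) := by
        ext ⟨p, q⟩
        simp only [Finset.mem_bipartiteAbove, Finset.mem_offDiag, Finset.mem_univ, true_and,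
          Finset.mem_image, Finset.mem_filter, Prod.mk.injEq]
        constructor
        · rintro ⟨hpq, h⟩
          exact ⟨p, fun hp => hpq (hp.symm.trans h), rfl, h⟩
        · rintro ⟨d, hd, rfl, rfl⟩
          exact ⟨fun h => hd h.symm, rfl⟩
      rw [heq, Finset.card_image_of_injective _ fun d e h => (Prod.ext_iff.1 h).1]
      have h2 := Finset.card_filter_add_card_filter_not (s := (Finset.univ : Finset Ω))
        (fun d => g • d = d)
      rw [hfix g hg, Finset.card_univ, hn] at h2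
      omega
    · rintro ⟨p, q⟩ hpq
      simp only [Finset.mem_offDiag, Finset.mem_univ, true_and] at hpq
      rw [hk, ← ncard_swap2_eq A hab hpq, ← Set.ncard_coe_finset]
      congr 1
      ext g
      simp only [Finset.coe_bipartiteBelow, Set.mem_setOf_eq, hT, swap2]
      tauto
  have e3 : (S a).card * (f - 1) = 11 * A.u * a' := by
    have h := Finset.card_mul_eq_card_mul (s := S a) (t := (Finset.univ : Finset Ω).erase a)
      (fun (g : G) (c : Ω) => g • c = c) (m := f - 1) (n := a') ?_ ?_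
    · rwa [Finset.card_erase_of_mem (Finset.mem_univ a), Finset.card_univ, hn,
        Nat.add_sub_cancel] at h
    · intro g hg
      obtain ⟨hgT, hga⟩ := Finset.mem_filter.1 hg
      rw [← hfix g hgT, ← Finset.card_erase_of_mem (s := Finset.univ.filter fun c : Ω => g • c = c)
        (a := a) (by simp [hga])]
      congr 1
      ext c
      simp only [Finset.mem_bipartiteAbove, Finset.mem_erase, Finset.mem_univ, and_true,
        Finset.mem_filter, true_and]
    · intro c hc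
      rw [Finset.mem_erase] at hc
      rw [ha', ← ncard_inv2_eq A hab hc.1.symm, ← Set.ncard_coe_finset]
      congr 1
      ext g
      simp only [Finset.coe_bipartiteBelow, S, Finset.mem_filter, Set.mem_setOf_eq, hT, inv2]
      exact ⟨fun ⟨⟨⟨h1, h2, _⟩, h3⟩, h4⟩ => ⟨h1, h2, h3, h4⟩,
        fun ⟨h1, h2, h3, h4⟩ => ⟨⟨⟨h1, h2, a, h3⟩, h3⟩, h4⟩⟩
  have hpos : 0 < (11 * A.u + 1) * (11 * A.u) := by
    have := A.one_lt_u
    positivity
  refine Nat.eq_of_mul_eq_mul_left hpos ?_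
  obtain ⟨T', hT'⟩ : ∃ n, n = T.card := ⟨_, rfl⟩
  obtain ⟨s, hs⟩ : ∃ n, n = (S a).card := ⟨_, rfl⟩
  obtain ⟨m, hm⟩ : ∃ n, n = 11 * A.u + 1 - f := ⟨_, rfl⟩
  rw [← hT', ← hs] at e1
  rw [← hT', ← hm] at e2
  rw [← hs] at e3
  rw [← hm]
  calc (11 * A.u + 1) * (11 * A.u) * (a' * m) = (11 * A.u + 1) * (11 * A.u * a') * m := by ring
    _ = (11 * A.u + 1) * (s * (f - 1)) * m := by rw [e3]
    _ = T' * f * (f - 1) * m := by rw [e1]; ring
    _ = T' * m * (f * (f - 1)) := by ring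
    _ = (11 * A.u + 1) * (11 * A.u) * (k * f * (f - 1)) := by rw [e2]; ring

end H66.Eleven
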