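import Cfsg.Agent.H66.Eleven.OddGood

/-!
The parameters of an involution with fixed points in S3403, case A, `u` and `v` odd.
-/

set_option autoImplicit false
set_option linter.unusedSectionVars false

open MulAction H63.Eleven

namespace H66.Eleven

universe u v

variable {G : Type u} {Ω : Type v} [Group G] [Finite G] [MulAction G Ω] (A : ACore G Ω)

theorem card_split (N H : Subgroup G) :
    Nat.card H = Nat.card ↥(H ⊓ N) * N.relIndex H := by
  have h := Subgroup.relIndex_mul_relIndex ⊥ (N ⊓ H) H bot_le inf_le_right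
  rw [Subgroup.relIndex_bot_left, Subgroup.relIndex_bot_left, Subgroup.inf_relIndex_right] at h
  rw [inf_comm H N]
  exact h.symm

/-- With `h + 1` fixed points of `t` and `v₀` the order of the centraliser of `t` in
`W a ⊓ stabilizer b`: `h = 10 v₀ + 1`, `11 u = h (5 h + 6)` and `h v₀ ∣ 11 u v`. -/
theorem fixed_params (hv : Odd A.v) (hu : Odd A.u) {a b : Ω} (hab : a ≠ b) {t : G}
    (ht : t * t = 1) (ht1 : t ≠ 1) (hta : t • a = a) (htb : t • b = b) :
    (fixSet Ω t).ncard = 10 * Nat.card (CV A a b t) + 2 ∧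
    11 * A.u = (10 * Nat.card (CV A a b t) + 1) * (5 * (10 * Nat.card (CV A a b t) + 1) + 6) ∧
    (10 * Nat.card (CV A a b t) + 1) * Nat.card (CV A a b t) ∣ 11 * A.u * A.v := by
  haveI := finiteΩ A
  obtain ⟨F⟩ := frame_exists A hab
  obtain ⟨v0, hv0⟩ : ∃ n, n = Nat.card (CV A a b t) := ⟨_, rfl⟩
  rw [← hv0]
  have hne : (inv2 G a b).Nonempty := ⟨t, ht, ht1, hta, htb⟩
  have hcount := count_eq A hv hu hab ht ht1 hta
  rw [(F.ncard_swap2 hv hu hne).2 (F.w_fpf hv hu)] at hcount
  have hpos : 0 < (inv2 G a b).ncard := (Set.ncard_pos).2 hne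
  obtain ⟨f, hf⟩ : ∃ f, f = (fixSet Ω t).ncard := ⟨_, rfl⟩
  rw [← hf] at hcount ⊢
  have hle : f ≤ 11 * A.u + 1 := by
    rw [hf, ← A.card_points, ← Set.ncard_univ]
    exact Set.ncard_le_ncard (Set.subset_univ _)
  have h1 : 11 * A.u + 1 - f = 5 * (f * (f - 1)) := by
    refine Nat.eq_of_mul_eq_mul_left hpos ?_
    rw [hcount]
    ring
  have hf10 : f = 10 * v0 + 2 := by
    rcases F.fix_cases hv hu ht ht1 hta htb with h | h
    · rw [← hf] at h
      rw [h] at h1
      have := A.one_lt_u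
      omega
    · rwa [← hf, ← hv0] at h
  have h11 : 11 * A.u = (10 * v0 + 1) * (5 * (10 * v0 + 1) + 6) := by
    rw [hf10, show 10 * v0 + 2 - 1 = 10 * v0 + 1 by omega] at h1
    have h2 : (10 * v0 + 1) * (5 * (10 * v0 + 1) + 6) =
        5 * ((10 * v0 + 2) * (10 * v0 + 1)) + (10 * v0 + 1) := by ring
    omega
  refine ⟨hf10, h11, ?_⟩
  let C : Subgroup G := Subgroup.centralizer ({t} : Set G)
  let Ca : Subgroup G := C ⊓ MulAction.stabilizer G a
  let K : Subgroup G := C ⊓ A.W a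
  have horb : (MulAction.orbit Ca b).ncard = 10 * v0 + 1 := by
    have heq : MulAction.orbit Ca b = fixSet Ω t \ {a} := by
      refine Set.Subset.antisymm ?_ fun c hc => ?_
      · rintro _ ⟨g, rfl⟩
        refine ⟨?_, fun h => hab (MulAction.injective (g : G) ?_)⟩
        · show t • (g : G) • b = (g : G) • b
          rw [← mul_smul, ← (mem_cent_iff.1 g.2.1).eq, mul_smul, htb]
        · show (g : G) • a = (g : G) • b
          rw [show (g : G) • a = a from g.2.2]
          exact h.symm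
      · obtain ⟨g, hg, hga, hgb⟩ := cent_twoTrans A hv ht ht1 hab (Ne.symm hc.2 : a ≠ c) hta htb
          hta hc.1
        exact ⟨⟨g, hg, hga⟩, hgb⟩
    rw [heq, Set.ncard_sdiff_singleton_of_mem (show a ∈ fixSet Ω t from hta), ← hf, hf10]
    omega
  obtain ⟨o, ho⟩ : ∃ n, n = (MulAction.orbit K b).ncard := ⟨_, rfl⟩
  have hKb : K ⊓ MulAction.stabilizer G b = CV A a b t := by
    show C ⊓ A.W a ⊓ MulAction.stabilizer G b = A.W a ⊓ MulAction.stabilizer G b ⊓ C
    rw [inf_assoc, inf_comm C]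
  have hK : Nat.card K = o * v0 := by rw [card_eq_orbit_mul K b, ← ho, hKb, hv0]
  have hCa := card_eq_orbit_mul Ca b
  rw [horb, card_split (A.W a) (Ca ⊓ MulAction.stabilizer G b),
    card_split (A.W a) Ca] at hCa
  have hWle := A.W_le a
  have e1 : Ca ⊓ A.W a = K := by
    show C ⊓ MulAction.stabilizer G a ⊓ A.W a = C ⊓ A.W a
    rw [inf_assoc, inf_eq_right.2 hWle]
  have e2 : Ca ⊓ MulAction.stabilizer G b ⊓ A.W a = CV A a b t := by
    rw [inf_assoc, inf_comm (MulAction.stabilizer G b), ← inf_assoc, e1, hKb]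
  rw [e1, e2, hK, ← hv0] at hCa
  have hv0pos : 0 < v0 := hv0 ▸ Nat.card_pos
  have hor : (10 * v0 + 1) ∣ o * (A.W a).relIndex Ca := by
    refine ⟨(A.W a).relIndex (Ca ⊓ MulAction.stabilizer G b), ?_⟩
    refine Nat.eq_of_mul_eq_mul_left hv0pos ?_
    calc v0 * (o * (A.W a).relIndex Ca) = o * v0 * (A.W a).relIndex Ca := by ring
      _ = _ := by rw [hCa]; ring
  have hr10 : (A.W a).relIndex Ca ∣ 10 := by
    let S := MulAction.stabilizer G a
    haveI : ((A.W a).subgroupOf S).Normal := ⟨fun x hx g => W_conj_fix A (x := (x : G)) g.2 hx⟩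
    have h2 := Subgroup.relIndex_dvd_index_of_normal ((A.W a).subgroupOf S) (Ca.subgroupOf S)
    rw [Subgroup.relIndex_subgroupOf (inf_le_right : Ca ≤ S)] at h2
    refine h2.trans ?_
    have h3 := index_W A hab
    have h4 : ((A.W a).subgroupOf S).index * A.v ∣ 10 * A.v := by
      rw [show ((A.W a).subgroupOf S).index = (A.W a).relIndex S from rfl, h3]
      exact (A.card_M a b hab).1
    exact Nat.dvd_of_mul_dvd_mul_right (v_pos A) h4
  have hco : Nat.Coprime (10 * v0 + 1) ((A.W a).relIndex Ca) := by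
    refine Nat.Coprime.coprime_dvd_right hr10 ?_
    rw [Nat.add_comm, Nat.coprime_add_mul_left_left]
    norm_num
  have hod : (10 * v0 + 1) ∣ o := hco.dvd_of_dvd_mul_right hor
  have hole : o ≤ 10 * v0 + 1 := by
    rw [ho, ← horb]
    refine Set.ncard_le_ncard ?_
    rintro _ ⟨g, rfl⟩
    exact ⟨⟨g, g.2.1, hWle g.2.2⟩, rfl⟩
  have hopos : 0 < o := by
    rw [ho]
    exact (Set.ncard_pos).2 ⟨b, MulAction.mem_orbit_self b⟩
  have hoeq : o = 10 * v0 + 1 := le_antisymm hole (Nat.le_of_dvd hopos hod)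
  rw [← hoeq, ← hK, ← A.card_W a]
  exact Subgroup.card_dvd_of_le inf_le_right

end H66.Eleven
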